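import Cfsg.Agent.Lib.PGroup.FourFree.Amalgam
import Cfsg.Agent.Lib.Fusion.SylowCenterModule
import Cfsg.Prelude.Def_CaseTheorems
import Cfsg.Prelude.Def_Involutions

/-!
# Maximal 2-locals in groups with solvable 2-locals of characteristic 2 not involving `S₄`
-/

set_option autoImplicit false
set_option linter.style.haveILetI false
set_option linter.unusedSectionVars false

open Subgroup

namespace CfsgLib.FourFree

open CfsgLib.Fusion (conjBy)

universe u

variable {G : Type u} [Group G] [Finite G]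

/-- `O₂(M)` as a subgroup of the ambient group. -/
def coreTwo (M : Subgroup G) : Subgroup G := (Cfsg.pCore 2 M).map M.subtype

/-- The module generated by the `Ω₁` of the centres of the Sylow 2-subgroups of `M`. -/
def zModule (M : Subgroup G) : Subgroup G :=
  (⨆ S : Sylow 2 M, CfsgLib.Fusion.sylowZ 2 (S : Subgroup M)).map M.subtype

theorem exists_two_lt {T : Subgroup G} {H : Subgroup G} (hT : IsPGroup 2 T) (hTH : T ≤ H)
    (h : 2 ∣ T.relIndex H) :
    ∃ S : Subgroup G, T < S ∧ S ≤ H ∧ IsPGroup 2 S ∧ T < S ⊓ Subgroup.normalizer (T : Set G) := by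
  haveI := Fact.mk Nat.prime_two
  obtain ⟨S, hTS, hSH, hS, hSi⟩ := CfsgLib.Fusion.exists_le_not_dvd_relIndex hT hTH
  have hne : T ≠ S := fun e => hSi (e ▸ h)
  haveI := hS.isNilpotent
  exact ⟨S, lt_of_le_of_ne hTS hne, hSH, hS, CfsgLib.Fusion.lt_inf_normalizer hTS hne⟩

theorem sylowZ_ne_bot {T : Subgroup G} (hT : IsPGroup 2 T) (hne : T ≠ ⊥) :
    CfsgLib.Fusion.sylowZ 2 T ≠ ⊥ := by
  haveI := Fact.mk Nat.prime_two
  haveI : Nontrivial T := (Subgroup.nontrivial_iff_ne_bot T).2 hne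
  haveI := hT.center_nontrivial
  obtain ⟨k, hk⟩ := (hT.to_subgroup (center T)).exists_card_eq
  have h2 : 2 ∣ Nat.card (center T) := by
    rcases k with - | k
    · have := Finite.one_lt_card (α := center T)
      rw [hk, pow_zero] at this
      omega
    · exact hk ▸ dvd_pow_self 2 (Nat.succ_ne_zero k)
  obtain ⟨z, hz⟩ := exists_prime_orderOf_dvd_card' (G := center T) 2 h2
  intro h
  have hmem : ((z : T) : G) ∈ CfsgLib.Fusion.sylowZ 2 T := subset_closure
    ⟨mem_inf.2 ⟨(z : T).2, mem_centralizer_iff.2 fun t ht =>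
      congrArg Subtype.val (mem_center_iff.1 z.2 ⟨t, ht⟩)⟩, by
        have e : z ^ 2 = 1 := hz ▸ pow_orderOf_eq_one z
        exact congrArg (fun w : center T => ((w : T) : G)) e⟩
  rw [h, mem_bot] at hmem
  have hz1 : z = 1 := Subtype.ext (Subtype.ext hmem)
  rw [hz1, orderOf_one] at hz
  omega

theorem map_sylowZ {M : Subgroup G} (S : Subgroup M) :
    (CfsgLib.Fusion.sylowZ 2 S).map M.subtype = CfsgLib.Fusion.sylowZ 2 (S.map M.subtype) := by
  rw [CfsgLib.Fusion.omega_map_eq _ M.subtype_injective,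
    CfsgLib.Fusion.inf_centralizer_map_eq _ M.subtype_injective]

section Local

variable (hO : Cfsg.pCore 2 G = ⊥)
  (hloc : ∀ M : Subgroup G, Cfsg.IsTwoLocal M → Group.IsSolvable M ∧ Cfsg.IsOfCharacteristicTwo M ∧
    ¬ Cfsg.Involves (Equiv.Perm (Fin 4)) M)

omit hO hloc in
theorem exists_maximal_ge {R : Subgroup G} (hR : IsPGroup 2 R) (hne : R ≠ ⊥) :
    ∃ M, Cfsg.IsMaximalTwoLocal M ∧ Subgroup.normalizer (R : Set G) ≤ M := by
  obtain ⟨M, hle, hM⟩ := Finite.exists_le_maximal (p := fun M : Subgroup G => Cfsg.IsTwoLocal M)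
    (a := Subgroup.normalizer (R : Set G)) ⟨R, hR, hne, rfl⟩
  exact ⟨M, ⟨hM.prop, fun N hN h => le_antisymm (hM.le_of_ge hN h) h⟩, hle⟩

omit hO hloc in
theorem isTwoLocal_conjBy {M : Subgroup G} (g : G) (h : Cfsg.IsTwoLocal M) :
    Cfsg.IsTwoLocal (conjBy g M) := by
  obtain ⟨R, hR, hne, rfl⟩ := h
  refine ⟨conjBy g R, CfsgLib.Fusion.isPGroup_conjBy g hR, fun e => hne ?_,
    CfsgLib.Fusion.conjBy_normalizer g R⟩
  rw [← CfsgLib.Fusion.conjBy_inv_conjBy g R, e]
  exact Subgroup.map_bot _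

omit hO hloc in
theorem isMaximal_conjBy {M : Subgroup G} (g : G) (h : Cfsg.IsMaximalTwoLocal M) :
    Cfsg.IsMaximalTwoLocal (conjBy g M) := by
  refine ⟨isTwoLocal_conjBy g h.1, fun N hN hle => ?_⟩
  have e := h.2 _ (isTwoLocal_conjBy g⁻¹ hN) (by
    have := CfsgLib.Fusion.conjBy_mono (g := g⁻¹) hle
    rwa [CfsgLib.Fusion.conjBy_inv_conjBy] at this)
  rw [← e, CfsgLib.Fusion.conjBy_conjBy_inv]

omit hO hloc in
theorem coreTwo_isPGroup (M : Subgroup G) : IsPGroup 2 (coreTwo M) :=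
  haveI := Fact.mk Nat.prime_two
  (CfsgLib.Coprime.pCore_isPGroup (G := M) 2).map _

omit hO hloc in
theorem le_normalizer_coreTwo (M : Subgroup G) : M ≤ Subgroup.normalizer (coreTwo M : Set G) := by
  haveI : (Cfsg.pCore 2 M).Normal := CfsgLib.Coprime.pCore_normal' 2
  intro m hm
  refine CfsgLib.Fusion.conjBy_eq_iff.1 (CfsgLib.Fusion.conjBy_eq_of_le
    (CfsgLib.Fusion.conjBy_le_iff.2 ?_))
  rintro _ ⟨x, hx, rfl⟩
  exact ⟨_, Normal.conj_mem (H := Cfsg.pCore 2 M) inferInstance x hx ⟨m, hm⟩, rfl⟩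

omit hO hloc in
theorem coreTwo_ne_bot {M : Subgroup G} (hM : Cfsg.IsTwoLocal M) : coreTwo M ≠ ⊥ := by
  haveI := Fact.mk Nat.prime_two
  obtain ⟨R, hR, hne, rfl⟩ := hM
  set M := Subgroup.normalizer (R : Set G)
  haveI : (R.subgroupOf M).Normal := Subgroup.normal_in_normalizer
  intro h
  refine hne (eq_bot_iff.2 fun x hx => ?_)
  have h1 : (⟨x, Subgroup.le_normalizer hx⟩ : M) ∈ Cfsg.pCore 2 M :=
    CfsgLib.Coprime.le_pCore (N := R.subgroupOf M) hR.comap_subtype hx
  exact h ▸ mem_map_of_mem M.subtype h1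

omit hO hloc in
theorem normalizer_coreTwo {M : Subgroup G} (hM : Cfsg.IsMaximalTwoLocal M) :
    Subgroup.normalizer (coreTwo M : Set G) = M :=
  hM.2 _ ⟨coreTwo M, coreTwo_isPGroup M, coreTwo_ne_bot hM.1, rfl⟩ (le_normalizer_coreTwo M)

omit hO hloc in
theorem normalizer_self_of_maximal {M : Subgroup G} (hM : Cfsg.IsMaximalTwoLocal M) {g : G}
    (hg : conjBy g M = M) : g ∈ M := by
  rw [← normalizer_coreTwo hM]
  haveI := Fact.mk Nat.prime_two
  haveI : (Cfsg.pCore 2 M).Normal := CfsgLib.Coprime.pCore_normal' 2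
  refine CfsgLib.Fusion.conjBy_eq_iff.1 (CfsgLib.Fusion.conjBy_eq_of_le ?_)
  have hle : conjBy g (coreTwo M) ≤ M := (CfsgLib.Fusion.conjBy_mono (map_subtype_le _)).trans hg.le
  set R := (conjBy g (coreTwo M)).subgroupOf M
  haveI : R.Normal := (normal_subgroupOf_iff_le_normalizer hle).2 (by
    rw [← CfsgLib.Fusion.conjBy_normalizer, normalizer_coreTwo hM, hg])
  intro x hx
  have h1 : (⟨x, hle hx⟩ : M) ∈ Cfsg.pCore 2 M := CfsgLib.Coprime.le_pCore (N := R)
    ((CfsgLib.Fusion.isPGroup_conjBy g (coreTwo_isPGroup M)).comap_subtype) hx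
  exact mem_map_of_mem M.subtype h1

include hloc in
theorem centralizer_coreTwo_le {M : Subgroup G} (hM : Cfsg.IsMaximalTwoLocal M) :
    centralizer (coreTwo M : Set G) ≤ coreTwo M := by
  intro x hx
  have hxM : x ∈ M := (normalizer_coreTwo hM).le (centralizer_le_normalizer _ hx)
  refine mem_map_of_mem M.subtype ((hloc M hM.1).2.1 (x := ⟨x, hxM⟩) (mem_centralizer_iff.2 fun q hq => ?_))
  exact Subtype.ext (mem_centralizer_iff.1 hx _ (mem_map_of_mem M.subtype hq))

include hO in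
theorem maximal_ne_top {M : Subgroup G} (hM : Cfsg.IsTwoLocal M) : M ≠ ⊤ := by
  haveI := Fact.mk Nat.prime_two
  obtain ⟨R, hR, hne, rfl⟩ := hM
  intro h
  haveI : R.Normal := normalizer_eq_top_iff.1 h
  exact hne (eq_bot_iff.2 (hO ▸ CfsgLib.Coprime.le_pCore hR))

omit hO hloc in
theorem coreTwo_le {M T : Subgroup G} (hT : IsPGroup 2 T) (hi : ¬ 2 ∣ T.relIndex M) :
    coreTwo M ≤ T := by
  haveI := Fact.mk Nat.prime_two
  rintro _ ⟨x, hx, rfl⟩
  exact CfsgLib.Coprime.pCore_le_sylow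
    ((hT.comap_subtype : IsPGroup 2 (T.subgroupOf M)).toSylow hi) hx

omit hO hloc in
/-- A Sylow subgroup of a maximal 2-local that is not one of the group lies in another one. -/
theorem exists_other_of_dvd {M T : Subgroup G} (hM : Cfsg.IsMaximalTwoLocal M) (hT : IsPGroup 2 T)
    (hTM : T ≤ M) (hi : ¬ 2 ∣ T.relIndex M) (hd : 2 ∣ T.index) :
    ∃ M', Cfsg.IsMaximalTwoLocal M' ∧ T ≤ M' ∧ ¬ 2 ∣ T.relIndex M' ∧ M' ≠ M := by
  haveI := Fact.mk Nat.prime_two
  obtain ⟨S, -, -, hS, hlt⟩ := exists_two_lt hT (le_top : T ≤ ⊤) (by rwa [relIndex_top_right])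
  obtain ⟨t, htS, htT⟩ := SetLike.exists_of_lt hlt
  have htM : t ∉ M := by
    intro h
    have hp : IsPGroup 2 (T ⊔ zpowers t : Subgroup G) :=
      hT.to_sup_of_normal_left' (hS.to_le (zpowers_le.2 htS.1)) (zpowers_le.2 htS.2)
    have e := CfsgLib.Fusion.eq_of_le_of_isPGroup_of_not_dvd_relIndex hp le_sup_left
      (sup_le hTM (zpowers_le.2 h)) hi
    exact htT (e ▸ mem_sup_right (mem_zpowers t))
  have hTt : conjBy t T = T := CfsgLib.Fusion.conjBy_eq_iff.2 htS.2
  refine ⟨conjBy t M, isMaximal_conjBy t hM, ?_, ?_,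
    fun e => htM (normalizer_self_of_maximal hM e)⟩
  · rw [← hTt]
    exact CfsgLib.Fusion.conjBy_mono hTM
  · rw [← hTt, conjBy, relIndex_map_map_of_injective _ _ (MulAut.conj t).injective]
    exact hi

omit hO hloc in
theorem zModule_le {M T H : Subgroup G} (hT : IsPGroup 2 T) (hTM : T ≤ M)
    (hi : ¬ 2 ∣ T.relIndex M) (h : ∀ m ∈ M, conjBy m (CfsgLib.Fusion.sylowZ 2 T) ≤ H) :
    zModule M ≤ H := by
  haveI := Fact.mk Nat.prime_two
  let TS : Sylow 2 M := (hT.comap_subtype : IsPGroup 2 (T.subgroupOf M)).toSylow hi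
  rw [zModule, Subgroup.map_iSup]
  refine iSup_le fun S => ?_
  obtain ⟨m, rfl⟩ := MulAction.exists_smul_eq M TS S
  rw [map_sylowZ]
  have e : ((m • TS : Sylow 2 M) : Subgroup M).map M.subtype = conjBy (m : G) T := by
    rw [Sylow.coe_subgroup_smul]
    show ((T.subgroupOf M).map (MulAut.conj m).toMonoidHom).map M.subtype = _
    rw [Subgroup.map_map, show M.subtype.comp (MulAut.conj m).toMonoidHom =
      (MulAut.conj (m : G)).toMonoidHom.comp M.subtype from MonoidHom.ext fun x => rfl,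
      ← Subgroup.map_map, subgroupOf_map_subtype, inf_eq_left.2 hTM]
  rw [e]
  refine le_trans (le_of_eq ?_) (h m m.2)
  show Cfsg.omegaOne 2 _ = Subgroup.map _ (Cfsg.omegaOne 2 _)
  rw [CfsgLib.Fusion.omega_map_eq _ (MulAut.conj (m : G)).injective,
    CfsgLib.Fusion.inf_centralizer_map_eq _ (MulAut.conj (m : G)).injective]

omit hO hloc in
theorem sylowZ_le_zModule {M T : Subgroup G} (hT : IsPGroup 2 T) (hTM : T ≤ M)
    (hi : ¬ 2 ∣ T.relIndex M) : CfsgLib.Fusion.sylowZ 2 T ≤ zModule M := by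
  haveI := Fact.mk Nat.prime_two
  let TS : Sylow 2 M := (hT.comap_subtype : IsPGroup 2 (T.subgroupOf M)).toSylow hi
  have e : (TS : Subgroup M).map M.subtype = T := by
    show (T.subgroupOf M).map M.subtype = T
    rw [subgroupOf_map_subtype, inf_eq_left.2 hTM]
  rw [← e, ← map_sylowZ]
  exact map_mono (le_iSup (fun S : Sylow 2 M => CfsgLib.Fusion.sylowZ 2 (S : Subgroup M)) TS)

omit hO hloc in
theorem le_normalizer_zModule (M : Subgroup G) : M ≤ Subgroup.normalizer (zModule M : Set G) := by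
  haveI := Fact.mk Nat.prime_two
  haveI := CfsgLib.Fusion.sylowModule_normal (G := M) (p := 2)
  intro m hm
  refine CfsgLib.Fusion.conjBy_eq_iff.1 (CfsgLib.Fusion.conjBy_eq_of_le
    (CfsgLib.Fusion.conjBy_le_iff.2 ?_))
  rintro _ ⟨x, hx, rfl⟩
  exact ⟨_, Normal.conj_mem
    (H := ⨆ S : Sylow 2 M, CfsgLib.Fusion.sylowZ 2 (S : Subgroup M)) inferInstance x hx ⟨m, hm⟩, rfl⟩

include hO hloc in
/-- Two different maximal 2-locals have an intersection of odd order. -/
theorem false_of_two_maximal {M₁ M₂ : Subgroup G} (h₁ : Cfsg.IsMaximalTwoLocal M₁)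
    (h₂ : Cfsg.IsMaximalTwoLocal M₂) (hne : M₁ ≠ M₂) {S₀ : Subgroup G} (hS₀ : IsPGroup 2 S₀)
    (hS₀ne : S₀ ≠ ⊥) (hS₁ : S₀ ≤ M₁) (hS₂ : S₀ ≤ M₂) : False := by
  haveI := Fact.mk Nat.prime_two
  let Two : Subgroup G → Prop := fun T => IsPGroup 2 T ∧ T ≠ ⊥ ∧ ∃ A B,
    Cfsg.IsMaximalTwoLocal A ∧ Cfsg.IsMaximalTwoLocal B ∧ A ≠ B ∧ T ≤ A ∧ T ≤ B
  haveI : Nonempty {T : Subgroup G // Two T} :=
    ⟨⟨S₀, hS₀, hS₀ne, M₁, M₂, h₁, h₂, hne, hS₁, hS₂⟩⟩
  obtain ⟨⟨T, hT, hTne, A, B, hA, hB, hAB, hTA, hTB⟩, hmax⟩ :=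
    Finite.exists_max fun T : {T : Subgroup G // Two T} => Nat.card T.1
  have hU : ∀ S X Y : Subgroup G, IsPGroup 2 S → Nat.card T < Nat.card S →
      Cfsg.IsMaximalTwoLocal X → Cfsg.IsMaximalTwoLocal Y → S ≤ X → S ≤ Y → X = Y := by
    intro S X Y hS hlt hX hY hSX hSY
    by_contra hXY
    have hSne : S ≠ ⊥ := fun e => by
      rw [e, Subgroup.card_bot] at hlt
      have := Nat.card_pos (α := T)
      omega
    exact absurd (hmax ⟨S, hS, hSne, X, Y, hX, hY, hXY, hSX, hSY⟩) (not_le.2 hlt)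
  have hcard : ∀ {H K : Subgroup G}, H < K → Nat.card H < Nat.card K := fun h =>
    Set.Finite.card_lt_card (Set.toFinite _) h
  -- some maximal 2-local has `T` as a Sylow subgroup
  obtain ⟨L₀, hL₀, hL₀le⟩ := exists_maximal_ge hT hTne
  have hnot : ∀ X, Cfsg.IsMaximalTwoLocal X → T ≤ X → 2 ∣ T.relIndex X → X = L₀ := by
    intro X hX hTX hd
    obtain ⟨S, -, hSX, hS, hlt⟩ := exists_two_lt hT hTX hd
    exact hU _ X L₀ (hS.to_le inf_le_left) (hcard hlt) hX hL₀ (inf_le_left.trans hSX)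
      (inf_le_right.trans hL₀le)
  let Mem : Subgroup G → Prop := fun X => Cfsg.IsMaximalTwoLocal X ∧ T ≤ X ∧ ¬ 2 ∣ T.relIndex X
  haveI : Nonempty {X : Subgroup G // Mem X} := by
    by_cases hd : 2 ∣ T.relIndex A
    · refine ⟨⟨B, hB, hTB, fun hd' => hAB ((hnot A hA hTA hd).trans (hnot B hB hTB hd').symm)⟩⟩
    · exact ⟨⟨A, hA, hTA, hd⟩⟩
  obtain ⟨⟨M, hM, hTM, hTMi⟩, hVmax⟩ :=
    Finite.exists_max fun X : {X : Subgroup G // Mem X} => Nat.card (zModule X.1)
  obtain ⟨M', hM', hTM', hTM'i, hne'⟩ : ∃ M', Cfsg.IsMaximalTwoLocal M' ∧ T ≤ M' ∧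
      ¬ 2 ∣ T.relIndex M' ∧ M' ≠ M := by
    by_cases hd : 2 ∣ T.index
    · exact exists_other_of_dvd hM hT hTM hTMi hd
    · obtain ⟨X, hX, hTX, hXne⟩ : ∃ X, Cfsg.IsMaximalTwoLocal X ∧ T ≤ X ∧ X ≠ M := by
        by_cases e : A = M
        · exact ⟨B, hB, hTB, fun h => hAB (e.trans h.symm)⟩
        · exact ⟨A, hA, hTA, e⟩
      refine ⟨X, hX, hTX, fun h => hd ?_, hXne⟩
      rw [← relIndex_mul_index hTX]
      exact h.mul_right _
  obtain ⟨hsolM, hcharM, hfreeM⟩ := hloc M hM.1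
  -- the module
  set V := zModule M with hVdef
  have hWe : Cfsg.IsElementaryAbelian 2 (⨆ S : Sylow 2 M, CfsgLib.Fusion.sylowZ 2 (S : Subgroup M)) :=
    CfsgLib.Fusion.sylowModule_elementary hcharM
  have hV : Cfsg.IsElementaryAbelian 2 V := by
    refine ⟨⟨⟨fun a b => Subtype.ext ?_⟩⟩, ?_⟩
    · obtain ⟨a', ha, ea⟩ := a.2
      obtain ⟨b', hb, eb⟩ := b.2
      show (a : G) * b = b * a
      rw [← ea, ← eb, ← map_mul, ← map_mul]
      exact congrArg M.subtype (congrArg Subtype.val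
        (hWe.1.is_comm.comm (⟨a', ha⟩ : (⨆ S : Sylow 2 M, CfsgLib.Fusion.sylowZ 2 (S : Subgroup M) :
          Subgroup M)) ⟨b', hb⟩))
    · rintro _ ⟨a, ha, rfl⟩
      rw [← map_pow, hWe.2 a ha, map_one]
  have hVne : V ≠ ⊥ := fun e => sylowZ_ne_bot hT hTne
    (eq_bot_iff.2 ((sylowZ_le_zModule hT hTM hTMi).trans e.le))
  have hVM : V ≤ M := map_subtype_le _
  have hVp : IsPGroup 2 V := fun v => ⟨1, Subtype.ext (by rw [pow_one]; exact hV.2 v v.2)⟩
  have hVcore : V ≤ coreTwo M := by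
    haveI := CfsgLib.Fusion.sylowModule_normal (G := M) (p := 2)
    exact map_mono (CfsgLib.Coprime.le_pCore (p := 2)
      (CfsgLib.Fusion.isPGroup_of_mem_forall hWe.2))
  have hVT : V ≤ T := hVcore.trans (coreTwo_le hT hTMi)
  have hNV : Subgroup.normalizer (V : Set G) = M :=
    hM.2 _ ⟨V, hVp, hVne, rfl⟩ (le_normalizer_zModule M)
  have hq : ∀ X ≤ M, (∀ x ∈ X, x * x ∈ centralizer (V : Set G)) →
      (centralizer (V : Set G)).relIndex X ^ 2 ≤ (centralizer (X : Set G)).relIndex V := by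
    refine sq_le_of_reduced hfreeM hsolM hV hVM (le_normalizer_zModule M) fun D hD hle hk => ?_
    haveI := hD
    haveI : (V.subgroupOf M).Normal :=
      (normal_subgroupOf_iff_le_normalizer hVM).2 (le_normalizer_zModule M)
    refine (CfsgLib.Fusion.eq_centralizer_of_generated (V.subgroupOf M)
      (fun S : Sylow 2 M => CfsgLib.Fusion.sylowZ 2 (S : Subgroup M))
      (fun S => (CfsgLib.Fusion.sylowZ_le _).trans inf_le_right)
      (comap_map_eq_self_of_injective M.subtype_injective _) D hle hk).le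
  -- a minimal group over `T` in another maximal 2-local
  obtain ⟨P, -, hPmin⟩ := Finite.exists_le_minimal
    (p := fun K : Subgroup G => T ≤ K ∧ K ≤ M' ∧ ¬ K ≤ M) (a := M')
    ⟨hTM', le_rfl, fun h => hne' (hM'.2 M hM.1 h).symm⟩
  obtain ⟨hTP, hPM', hPM⟩ := hPmin.prop
  obtain ⟨hsolM', hcharM', hfreeM'⟩ := hloc M' hM'.1
  haveI := hsolM'
  have hPs : Group.IsSolvable P :=
    Group.isSolvable_of_isSolvable_injective (f := Subgroup.inclusion hPM') (Subgroup.inclusion_injective hPM')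
  have hPf : ¬ Cfsg.Involves (Equiv.Perm (Fin 4)) P := fun h =>
    hfreeM' (CfsgLib.Fusion.involves_of_injective _ (Subgroup.inclusion_injective hPM') h)
  have hTPi : ¬ 2 ∣ T.relIndex P := fun h => hTM'i (by
    rw [← relIndex_mul_relIndex T P M' hTP hPM']
    exact h.mul_right _)
  have hPc : Cfsg.IsOfCharacteristicTwo P := by
    set R := coreTwo M' with hR
    have hRP : R ≤ P := (coreTwo_le hT hTM'i).trans hTP
    haveI : (R.subgroupOf P).Normal :=
      (normal_subgroupOf_iff_le_normalizer hRP).2 (hPM'.trans (le_normalizer_coreTwo M'))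
    have hle : R.subgroupOf P ≤ Cfsg.pCore 2 P :=
      CfsgLib.Coprime.le_pCore (coreTwo_isPGroup M').comap_subtype
    intro p hp
    refine hle (centralizer_coreTwo_le hloc hM' (mem_centralizer_iff.2 fun r hr => ?_))
    exact congrArg Subtype.val (mem_centralizer_iff.1 hp _ (hle (show (⟨r, hRP hr⟩ : P) ∈ R.subgroupOf P
      from hr)))
  obtain ⟨N, hNne, hNp, hPN, hMN⟩ := exists_normalized hT hTM hTMi hTP hTPi hVT hV hVne hNV hq hPM
    (fun K hK hKP hne => by
      by_contra hKM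
      exact hne (le_antisymm hKP (hPmin.le_of_le ⟨hK, hKP.trans hPM', hKM⟩ hKP)))
    hPs hPf hPc
  obtain ⟨L, hL, hLN⟩ := exists_maximal_ge hNp hNne
  have hTL : T ≤ L := hTP.trans (hPN.trans hLN)
  have hLM : L ≠ M := fun e => hPM ((hPN.trans hLN).trans e.le)
  have hfrat : ∀ m ∈ M, ∃ c ∈ centralizer (V : Set G), ∃ m' ∈ L, m = c * m' := fun m hm => by
    obtain ⟨c, hc, m', hm', e⟩ := exists_frattini hT hTM hTMi hNV hm
    exact ⟨c, hc, m', hLN (hMN hm'), e⟩
  have hCM : centralizer (V : Set G) ≤ M := (centralizer_le_normalizer _).trans hNV.le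
  by_cases hd : 2 ∣ T.relIndex L
  · obtain ⟨S, hTS, hSL, hS, hSi⟩ := CfsgLib.Fusion.exists_le_not_dvd_relIndex hT hTL
    have hTS' : T < S := lt_of_le_of_ne hTS fun e => hSi (e ▸ hd)
    have hSfull : ¬ 2 ∣ S.index := fun h => by
      obtain ⟨X, hX, hSX, -, hXne⟩ := exists_other_of_dvd hL hS hSL hSi h
      exact hXne (hU S X L hS (hcard hTS') hX hL hSX hSL)
    set Z := CfsgLib.Fusion.sylowZ 2 S with hZ
    have hSne : S ≠ ⊥ := fun e => not_lt_bot (e ▸ hTS')
    have hZS : Z ≤ S ⊓ centralizer (S : Set G) := CfsgLib.Fusion.sylowZ_le S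
    have hCT : centralizer (T : Set G) ≤ M := by
      refine (centralizer_le (SetLike.coe_subset_coe.2 (coreTwo_le hT hTMi))).trans ?_
      exact (centralizer_le_normalizer _).trans (normalizer_coreTwo hM).le
    have hZT : Z ≤ T := by
      have e := CfsgLib.Fusion.eq_of_le_of_isPGroup_of_not_dvd_relIndex
        (hS.to_le (sup_le hTS (hZS.trans inf_le_left))) (le_sup_left : T ≤ T ⊔ Z)
        (sup_le hTM ((hZS.trans inf_le_right).trans ((centralizer_le
          (SetLike.coe_subset_coe.2 hTS)).trans hCT))) hTMi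
      exact le_sup_right.trans e.le
    have hZV : Z ≤ V := by
      refine le_trans ?_ (sylowZ_le_zModule hT hTM hTMi)
      refine (closure_le _).2 fun x hx => subset_closure ⟨mem_inf.2
        ⟨hZT (subset_closure hx), centralizer_le (SetLike.coe_subset_coe.2 hTS) hx.1.2⟩, hx.2⟩
    obtain ⟨L', hL', hZL'⟩ := exists_maximal_ge (hS.to_le (hZS.trans inf_le_left))
      (sylowZ_ne_bot hS hSne)
    have hCZ : centralizer (Z : Set G) ≤ L' := (centralizer_le_normalizer _).trans hZL'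
    have hSL' : S ≤ L' := (le_centralizer_iff.1 (hZS.trans inf_le_right)).trans hCZ
    have e : L' = L := hU S L' L hS (hcard hTS') hL' hL hSL' hSL
    have hCV : centralizer (V : Set G) ≤ L :=
      ((centralizer_le (SetLike.coe_subset_coe.2 hZV)).trans hCZ).trans e.le
    refine hLM (hM.2 L hL.1 fun m hm => ?_)
    obtain ⟨c, hc, m', hm', rfl⟩ := hfrat m hm
    exact mul_mem (hCV hc) hm'
  · have hle : V ≤ zModule L := zModule_le hT hTM hTMi fun m hm => by
      obtain ⟨c, hc, m', hm', rfl⟩ := hfrat m hm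
      have hm'M : m' ∈ M := by
        have := mul_mem (inv_mem (hCM hc)) hm
        rwa [inv_mul_cancel_left] at this
      rw [← CfsgLib.Fusion.conjBy_conjBy]
      have h1 : conjBy m' (CfsgLib.Fusion.sylowZ 2 T) ≤ zModule L := by
        refine (CfsgLib.Fusion.conjBy_mono (sylowZ_le_zModule hT hTL hd)).trans ?_
        rw [CfsgLib.Fusion.conjBy_eq_iff.2 (le_normalizer_zModule L hm')]
      have h2 : conjBy m' (CfsgLib.Fusion.sylowZ 2 T) ≤ V := by
        refine (CfsgLib.Fusion.conjBy_mono (sylowZ_le_zModule hT hTM hTMi)).trans ?_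
        rw [CfsgLib.Fusion.conjBy_eq_iff.2 (le_normalizer_zModule M hm'M)]
      refine CfsgLib.Fusion.conjBy_le_iff.2 fun x hx => ?_
      rw [← mem_centralizer_iff.1 hc x (h2 hx), mul_inv_cancel_right]
      exact h1 hx
    have e : V = zModule L := eq_of_le_of_card_ge hle (hVmax ⟨L, hL, hTL, hd⟩)
    refine hLM (hL.2 M hM.1 ?_).symm
    rw [← hNV, e]
    exact le_normalizer_zModule L

include hO hloc in
theorem isStronglyEmbedded_of_maximal {M : Subgroup G} (hM : Cfsg.IsMaximalTwoLocal M) :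
    Cfsg.IsStronglyEmbedded M := by
  haveI := Fact.mk Nat.prime_two
  refine ⟨maximal_ne_top hO hM.1, ?_, fun g hg => ?_⟩
  · obtain ⟨R, hR, hne, rfl⟩ := hM.1
    haveI : Nontrivial R := (Subgroup.nontrivial_iff_ne_bot R).2 hne
    obtain ⟨k, hk⟩ := hR.exists_card_eq
    have hk0 : k ≠ 0 := fun e => by
      have := Finite.one_lt_card (α := R)
      rw [hk, e, pow_zero] at this
      omega
    exact even_iff_two_dvd.2 ((hk ▸ dvd_pow_self 2 hk0).trans
      (card_dvd_of_le Subgroup.le_normalizer))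
  · rw [← Nat.not_even_iff_odd]
    intro he
    set I := M ⊓ M.map (MulAut.conj g).toMonoidHom with hI
    obtain ⟨x, hx⟩ := exists_prime_orderOf_dvd_card' (G := I) 2 he.two_dvd
    have hp : IsPGroup 2 (zpowers (x : G)) := IsPGroup.of_card (n := 1) (by
      rw [Nat.card_zpowers, Subgroup.orderOf_coe, hx, pow_one])
    refine false_of_two_maximal hO hloc hM (isMaximal_conjBy g hM)
      (fun e => hg (normalizer_self_of_maximal hM e.symm)) hp (fun e => ?_)
      (zpowers_le.2 x.2.1) (zpowers_le.2 x.2.2)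
    rw [zpowers_eq_bot] at e
    rw [← Subgroup.orderOf_coe, e, orderOf_one] at hx
    omega

end Local

end CfsgLib.FourFree
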