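import Mathlib.GroupTheory.Sylow
import Mathlib.GroupTheory.Index
import Cfsg.Prelude.Def_Local
import Cfsg.Agent.Lib.Coprime.Hyperplanes
import Cfsg.Agent.Lib.Coprime.Component
import Cfsg.Agent.Lib.PGroup.SmallElementsIndex

/-!
# Actions without a four-group section acted on as by `S₃`

Elementary abelian 2-subgroups of solvable such groups with trivial `O₂`, acting faithfully on an elementary
abelian 2-group `W`, satisfy `|X|² ≤ |W : C_W(X)|`.
-/

set_option autoImplicit false
set_option linter.style.haveILetI false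
set_option linter.unusedSectionVars false

open Subgroup

namespace CfsgLib.FourFree

universe u v

variable {H : Type u} [Group H] {W : Type v} [CommGroup W]

/-- The common fixed points of a set of operators. -/
def fx (φ : H →* MulAut W) (S : Set H) : Subgroup W where
  carrier := {w | ∀ x ∈ S, φ x w = w}
  one_mem' := fun x _ => map_one (φ x)
  mul_mem' := fun ha hb x hx => by rw [map_mul, ha x hx, hb x hx]
  inv_mem' := fun ha x hx => by rw [map_inv, ha x hx]

theorem mem_fx {φ : H →* MulAut W} {S : Set H} {w : W} : w ∈ fx φ S ↔ ∀ x ∈ S, φ x w = w := Iff.rfl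

theorem fx_antitone (φ : H →* MulAut W) {S T : Set H} (h : S ⊆ T) : fx φ T ≤ fx φ S :=
  fun _ hw x hx => hw x (h hx)

/-- `w ↦ r(w)/w`. -/
def delt (φ : H →* MulAut W) (r : H) : W →* W :=
  MonoidHom.mk' (fun w => φ r w / w) fun a b => by
    simp only [map_mul, mul_div_mul_comm]

theorem delt_apply (φ : H →* MulAut W) (r : H) (w : W) : delt φ r w = φ r w / w := rfl

/-- No section of order four of `W` on which two operators act as the generators of `S₃`. -/
def Free (φ : H →* MulAut W) : Prop :=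
  ∀ x r : H, ∀ A B : Subgroup W, A ≤ B → A.relIndex B = 4 →
    (∀ a ∈ A, φ x a ∈ A) → (∀ a ∈ A, φ r a ∈ A) → (∀ b ∈ B, φ x b ∈ B) → (∀ b ∈ B, φ r b ∈ B) →
    (∀ b ∈ B, φ (x * x) b / b ∈ A) → (∀ b ∈ B, φ (x * r * x⁻¹ * r) b / b ∈ A) →
    (∃ k, Odd k ∧ ∀ b ∈ B, φ (r ^ k) b / b ∈ A) → ∀ b ∈ B, φ r b / b ∈ A

theorem apply_mul (φ : H →* MulAut W) (a b : H) (w : W) : φ (a * b) w = φ a (φ b w) := by
  rw [map_mul, MulAut.mul_apply]

theorem pow_invariant (φ : H →* MulAut W) {U : Subgroup W} {g : H} (h : ∀ w ∈ U, φ g w ∈ U) (n : ℕ) :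
    ∀ w ∈ U, φ (g ^ n) w ∈ U := by
  induction n with
  | zero => intro w hw; simpa using hw
  | succ n ih => intro w hw; rw [pow_succ, apply_mul]; exact ih _ (h w hw)

theorem inv_invariant [Finite W] (φ : H →* MulAut W) {U : Subgroup W} {g : H}
    (h : ∀ w ∈ U, φ g w ∈ U) : ∀ w ∈ U, φ g⁻¹ w ∈ U := by
  intro w hw
  let f : U → U := fun u => ⟨φ g u, h u u.2⟩
  have hf : Function.Injective f := fun a b e =>
    Subtype.ext ((φ g).injective (congrArg Subtype.val e))
  obtain ⟨u, hu⟩ := Finite.surjective_of_injective hf ⟨w, hw⟩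
  have hu' : φ g (u : W) = w := congrArg Subtype.val hu
  rw [← hu', ← apply_mul, inv_mul_cancel, map_one, MulAut.one_apply]
  exact u.2

/-- An operator of odd order fixing its displacement fixes the vector. -/
theorem delt_eq_one (φ : H →* MulAut W) (hW : ∀ w : W, w * w = 1) {r : H} {k : ℕ} (hk : Odd k) {w : W}
    (hw : φ (r ^ k) w = w) (h : φ r (delt φ r w) = delt φ r w) : delt φ r w = 1 := by
  set d := delt φ r w with hd
  have hrw : φ r w = d * w := by rw [hd, delt_apply, div_mul_cancel]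
  have key : ∀ n : ℕ, φ (r ^ n) w = d ^ n * w := by
    intro n
    induction n with
    | zero => simp
    | succ n ih =>
      rw [pow_succ', apply_mul, ih, map_mul, map_pow, h, hrw, ← mul_assoc, ← pow_succ]
  have h1 := key k
  rw [hw] at h1
  have h2 : d ^ k = 1 := mul_eq_right.1 h1.symm
  obtain ⟨j, rfl⟩ := hk
  rwa [pow_succ, pow_mul, pow_two, hW, one_pow, one_mul] at h2

theorem inv_eq (hW : ∀ w : W, w * w = 1) (w : W) : w⁻¹ = w := inv_eq_of_mul_eq_one_right (hW w)

variable [Finite W]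

theorem isPGroup_of_sq (hW : ∀ w : W, w * w = 1) (U : Subgroup W) : IsPGroup 2 U := fun u =>
  ⟨1, Subtype.ext (by rw [pow_one, SubmonoidClass.coe_pow, pow_two]; exact hW u)⟩

/-- An involutory operator inverting a nontrivial operator of odd order has at least four cosets of
fixed points. -/
theorem four_le {φ : H →* MulAut W} (hF : Free φ) (hW : ∀ w : W, w * w = 1) (W₁ : Subgroup W) (x r : H)
    (hx : ∀ w ∈ W₁, φ (x * x) w = w) (hinv : ∀ w ∈ W₁, φ (x * r * x⁻¹ * r) w = w)
    (hk : ∃ k, Odd k ∧ ∀ w ∈ W₁, φ (r ^ k) w = w) (hWx : ∀ w ∈ W₁, φ x w ∈ W₁)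
    (hWr : ∀ w ∈ W₁, φ r w ∈ W₁) (hmove : ∃ w ∈ W₁, φ r w ≠ w) :
    4 ≤ (fx φ {x}).relIndex W₁ := by
  by_contra hlt
  obtain ⟨k, hk, hkW⟩ := hk
  set D := W₁.map (delt φ r) with hD
  have hDW : D ≤ W₁ := by
    rintro _ ⟨w, hw, rfl⟩
    rw [delt_apply]
    exact div_mem (hWr w hw) hw
  have hswap : ∀ w ∈ W₁, φ x (φ r w) = φ r⁻¹ (φ x w) := by
    intro w hw
    have hv : φ r⁻¹ (φ x w) ∈ W₁ := inv_invariant φ hWr _ (hWx w hw)
    rw [← apply_mul, show x * r = x * r * x⁻¹ * r * (r⁻¹ * x) by group, apply_mul φ (x * r * x⁻¹ * r), apply_mul φ r⁻¹ x]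
    exact hinv _ hv
  have hfix : ∀ d ∈ D, φ r d = d → d = 1 := by
    rintro _ ⟨w, hw, rfl⟩ h
    exact delt_eq_one φ hW hk (hkW w hw) h
  have hDr : ∀ d ∈ D, φ r d ∈ D := by
    rintro _ ⟨w, hw, rfl⟩
    refine ⟨φ r w, hWr w hw, ?_⟩
    rw [delt_apply, delt_apply, map_div]
  have hDx : ∀ d ∈ D, φ x d ∈ D := by
    rintro _ ⟨w, hw, rfl⟩
    refine ⟨φ r⁻¹ (φ x w), inv_invariant φ hWr _ (hWx w hw), ?_⟩
    rw [delt_apply, delt_apply, map_div, hswap w hw, ← apply_mul, mul_inv_cancel, map_one,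
      MulAut.one_apply, ← inv_div, inv_eq hW]
  set D₁ := D ⊓ fx φ {x} with hD₁
  set D₂ := D₁.map (φ r : W ≃* W).toMonoidHom with hD₂
  have hD₂D : D₂ ≤ D := by
    rintro _ ⟨d, hd, rfl⟩
    exact hDr d hd.1
  have hmeet : D₁ ⊓ D₂ = ⊥ := by
    rw [eq_bot_iff]
    rintro d ⟨⟨-, hdx⟩, e, he, rfl⟩
    have h1 : φ x (φ r e) = φ r e := hdx x rfl
    rw [hswap e (hDW he.1), he.2 x rfl] at h1
    have h3 : φ r (φ r e) = e := by
      rw [← h1, ← apply_mul, mul_inv_cancel, map_one, MulAut.one_apply]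
    have h4 : ∀ i : ℕ, φ (r ^ (2 * i)) e = e := by
      intro i
      induction i with
      | zero => simp
      | succ i ih => rw [show 2 * (i + 1) = 2 + 2 * i by ring, pow_add, apply_mul, ih, pow_two, apply_mul, h3]
    obtain ⟨j, rfl⟩ := hk
    have h5 : φ r e = e := by
      have h := hkW e (hDW he.1)
      rwa [pow_succ', apply_mul, h4] at h
    show φ r e ∈ (⊥ : Subgroup W)
    rw [h5, hfix e he.1 h5]
    exact one_mem _
  have hDp := isPGroup_of_sq hW D
  have hi : D₁.relIndex D ≤ 2 := by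
    have h1 : D₁.relIndex D ≤ (fx φ {x}).relIndex W₁ := by
      rw [hD₁, inf_comm, inf_relIndex_right]
      exact relIndex_le_of_le_right hDW ((fx φ {x}).subgroupOf W₁).index_ne_zero_of_finite
    haveI := Fact.mk Nat.prime_two
    obtain ⟨n, hn⟩ := hDp.index (D₁.subgroupOf D)
    have hn' : D₁.relIndex D = 2 ^ n := hn
    rcases n with - | - | n
    · rw [hn']; norm_num
    · rw [hn']; norm_num
    · exfalso
      have : 4 ≤ 2 ^ (n + 1 + 1) := by
        rw [pow_succ, pow_succ]
        have := Nat.one_le_two_pow (n := n)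
        omega
      omega
  have hcard : Nat.card D₂ = Nat.card D₁ :=
    card_map_of_injective (f := (φ r : W ≃* W).toMonoidHom) (φ r).injective
  have hi₂ : D₂.relIndex D = D₁.relIndex D := by
    have e₁ := relIndex_mul_relIndex ⊥ D₁ D bot_le inf_le_left
    have e₂ := relIndex_mul_relIndex ⊥ D₂ D bot_le hD₂D
    rw [relIndex_bot_left, relIndex_bot_left] at e₁ e₂
    rw [hcard, ← e₁] at e₂
    exact Nat.eq_of_mul_eq_mul_left Nat.card_pos e₂
  have hle : Nat.card D ≤ 4 := by
    have h := relIndex_inf_le (H := D₁) (K := D₂) (L := D)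
    rw [hmeet, relIndex_bot_left, hi₂] at h
    exact h.trans (Nat.mul_le_mul hi hi)
  obtain ⟨w₀, hw₀, hw₀r⟩ := hmove
  have hd₀ : delt φ r w₀ ≠ 1 := fun h => hw₀r (div_eq_one.1 h)
  have hd₀D : delt φ r w₀ ∈ D := ⟨w₀, hw₀, rfl⟩
  have hD4 : Nat.card D = 4 := by
    haveI := Fact.mk Nat.prime_two
    obtain ⟨n, hn⟩ := hDp.exists_card_eq
    rcases n with - | - | - | n
    · exact absurd ((Subgroup.card_eq_one.1 (hn.trans (pow_zero 2))) ▸ hd₀D : delt φ r w₀ ∈ (⊥ : Subgroup W))
        (fun h => hd₀ (mem_bot.1 h))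
    · exfalso
      rw [pow_one] at hn
      obtain ⟨a, b, hab, huniv⟩ := Nat.card_eq_two_iff.1 hn
      set d : D := ⟨_, hd₀D⟩
      set d' : D := ⟨_, hDr _ hd₀D⟩
      have hd'1 : d' ≠ 1 := fun h => hd₀ ((φ r).injective
        ((congrArg Subtype.val h).trans (map_one (φ r)).symm))
      have hd1 : d ≠ 1 := fun h => hd₀ (congrArg Subtype.val h)
      have hmem : ∀ z : D, z = a ∨ z = b := fun z => by
        have : z ∈ ({a, b} : Set D) := huniv ▸ Set.mem_univ z
        simpa using this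
      have hdd : d' = d := by
        rcases hmem d with h1 | h1 <;> rcases hmem d' with h2 | h2 <;> rcases hmem 1 with h3 | h3 <;>
          first
          | exact h2.trans h1.symm
          | exact absurd (h1.trans h3.symm) hd1
          | exact absurd (h2.trans h3.symm) hd'1
      exact hd₀ (hfix _ hd₀D (congrArg Subtype.val hdd))
    · rw [hn]; norm_num
    · exfalso
      have : 8 ≤ 2 ^ (n + 1 + 1 + 1) := by
        rw [pow_succ, pow_succ, pow_succ]
        have := Nat.one_le_two_pow (n := n)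
        omega
      omega
  refine hd₀ (hfix _ hd₀D (div_eq_one.1 (mem_bot.1 (hF x r ⊥ D bot_le
    (by rw [relIndex_bot_left, hD4]) ?_ ?_ hDx hDr ?_ ?_ ⟨k, hk, ?_⟩ _ hd₀D))))
  · intro a ha; rw [mem_bot.1 ha, map_one]; exact one_mem _
  · intro a ha; rw [mem_bot.1 ha, map_one]; exact one_mem _
  · intro b hb; rw [hx b (hDW hb), div_self']; exact one_mem _
  · intro b hb; rw [hinv b (hDW hb), div_self']; exact one_mem _
  · intro b hb; rw [hkW b (hDW hb), div_self']; exact one_mem _

/-- An elementary abelian 2-group acting on an odd Fitting subgroup has a hyperplane centralizing an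
element moved by the whole group. -/
theorem exists_hyperplane [Finite H] [Group.IsSolvable H] (hO : Cfsg.pCore 2 H = ⊥) (X : Subgroup H)
    (hX : Cfsg.IsElementaryAbelian 2 X) (hXb : X ≠ ⊥) :
    ∃ X₁ : Subgroup H, X₁ ≤ X ∧ X₁.relIndex X = 2 ∧
      ∃ s ∈ Cfsg.fittingSubgroup H, (∀ a ∈ X₁, a * s = s * a) ∧ ∃ y ∈ X, y * s ≠ s * y := by
  haveI := Fact.mk Nat.prime_two
  set F := Cfsg.fittingSubgroup H with hFdef
  haveI : F.Normal := CfsgLib.Coprime.fitting_normal
  have hFodd : ¬ 2 ∣ Nat.card F := CfsgLib.PGroup.not_dvd_card_fitting hO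
  have hFC : centralizer (F : Set H) ≤ F := CfsgLib.Coprime.centralizer_fitting_le
  have hXp : IsPGroup 2 X := fun a => ⟨1, Subtype.ext (by rw [pow_one]; exact hX.2 a a.2)⟩
  have hnot : ¬ F ≤ centralizer (X : Set H) := fun h => by
    have h1 : X ≤ F := (le_centralizer_iff.1 h).trans hFC
    obtain ⟨k, hk⟩ := hXp.exists_card_eq
    have h2 : 2 ^ k ∣ Nat.card F := hk ▸ card_dvd_of_le h1
    rcases k with - | k
    · exact hXb (Subgroup.card_eq_one.1 (hk.trans (pow_zero 2)))
    · exact hFodd ((dvd_pow_self 2 (Nat.succ_ne_zero k)).trans h2)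
  by_cases h4 : 2 ^ 2 ≤ Nat.card X
  · by_contra hcon
    refine hnot fun f hf => ?_
    refine (mem_inf.1 (CfsgLib.Coprime.le_of_hyperplanes (W := F ⊓ centralizer (X : Set H)) hX h4
      hFodd (fun a _ => by rw [normalizer_eq_top]; exact mem_top a) (fun E hE hEi f hf => ?_) hf)).2
    refine mem_inf.2 ⟨(mem_inf.1 hf).1, mem_centralizer_iff.2 fun y hy => ?_⟩
    by_contra hne
    exact hcon ⟨E, hE, hEi, f, (mem_inf.1 hf).1,
      fun a ha => mem_centralizer_iff.1 (mem_inf.1 hf).2 a ha, y, hy, hne⟩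
  · obtain ⟨k, hk⟩ := hXp.exists_card_eq
    have hk1 : Nat.card X = 2 := by
      rcases k with - | - | k
      · exact absurd (Subgroup.card_eq_one.1 (hk.trans (pow_zero 2))) hXb
      · exact hk.trans (pow_one 2)
      · exact absurd (hk ▸ Nat.pow_le_pow_right (n := 2) (by norm_num) (by omega)) h4
    obtain ⟨s, hs, hsn⟩ := SetLike.not_le_iff_exists.1 hnot
    rw [mem_centralizer_iff] at hsn
    push Not at hsn
    obtain ⟨y, hy, hys⟩ := hsn
    exact ⟨⊥, bot_le, by rw [relIndex_bot_left, hk1], s, hs,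
      fun a ha => by rw [mem_bot.1 ha, one_mul, mul_one], y, hy, hys⟩

/-- The bound `|X|² ≤ |W : C_W(X)|`, with an element with four cosets of fixed points in case of
equality. -/
theorem card_sq_le_index [Finite H] [Group.IsSolvable H] {φ : H →* MulAut W}
    (hinj : Function.Injective φ) (hF : Free φ) (hW : ∀ w : W, w * w = 1)
    (hO : Cfsg.pCore 2 H = ⊥) : ∀ (n : ℕ) (X : Subgroup H), Nat.card X ≤ n →
      Cfsg.IsElementaryAbelian 2 X →
      Nat.card X ^ 2 ≤ (fx φ X).index ∧
        (Nat.card X ^ 2 = (fx φ X).index → X ≠ ⊥ →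
          ∃ x ∈ X, x ≠ 1 ∧ (fx φ {x}).index = 4) := by
  haveI := Fact.mk Nat.prime_two
  intro n
  induction n with
  | zero => intro X hn; exact absurd hn (not_le.2 Nat.card_pos)
  | succ n ih =>
    intro X hn hX
    have hfi : ∀ S : Set H, (fx φ S).index ≠ 0 := fun S => (fx φ S).index_ne_zero_of_finite
    by_cases hXb : X = ⊥
    · subst hXb
      rw [Subgroup.card_bot, one_pow]
      exact ⟨Nat.one_le_iff_ne_zero.2 (hfi _), fun _ h => absurd rfl h⟩
    set F := Cfsg.fittingSubgroup H with hFdef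
    haveI : F.Normal := CfsgLib.Coprime.fitting_normal
    have hFodd : ¬ 2 ∣ Nat.card F := CfsgLib.PGroup.not_dvd_card_fitting hO
    have hXp : IsPGroup 2 X := fun a => ⟨1, Subtype.ext (by rw [pow_one]; exact hX.2 a a.2)⟩
    have hcomm : ∀ a ∈ X, ∀ b ∈ X, a * b = b * a := fun a ha b hb =>
      congrArg Subtype.val (hX.1.is_comm.comm (⟨a, ha⟩ : X) ⟨b, hb⟩)
    -- a hyperplane whose centralizer in the Fitting subgroup is moved
    obtain ⟨X₁, hX₁X, hX₁i, s, hsF, hsX₁, y, hyX, hsy⟩ := exists_hyperplane hO X hX hXb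
    have hyy : y * y = 1 := by rw [← pow_two]; exact hX.2 y hyX
    have hy1 : y ∉ X₁ := fun h => hsy (hsX₁ y h)
    set r := s⁻¹ * (y * s * y) with hr
    have hrF : r ∈ F := mul_mem (inv_mem hsF) (by
      have h := Subgroup.Normal.conj_mem (H := F) inferInstance s hsF y
      rwa [inv_eq_of_mul_eq_one_right hyy] at h)
    have hr1 : r ≠ 1 := fun h => hsy (by
      have h' : y * s * y = s := (inv_mul_eq_one.1 h).symm
      calc y * s = y * s * (y * y) := by rw [hyy, mul_one]
        _ = y * s * y * y := (mul_assoc _ _ _).symm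
        _ = s * y := by rw [h'])
    have hyinv : y⁻¹ = y := inv_eq_of_mul_eq_one_right hyy
    have hinv : y * r * y⁻¹ * r = 1 := by
      rw [hr, hyinv]
      calc y * (s⁻¹ * (y * s * y)) * y * (s⁻¹ * (y * s * y))
          = y * s⁻¹ * y * s * (y * y) * s⁻¹ * y * s * y := by group
        _ = y * s⁻¹ * y * s * s⁻¹ * y * s * y := by rw [hyy, mul_one]
        _ = y * s⁻¹ * (y * y) * s * y := by group
        _ = 1 := by rw [hyy, mul_one, inv_mul_cancel_right, hyy]
    have hrX₁ : ∀ a ∈ X₁, a * r = r * a := fun a ha => by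
      have h1 : Commute a s := hsX₁ a ha
      have h2 : Commute a y := hcomm a (hX₁X ha) y hyX
      exact h1.inv_right.mul_right ((h2.mul_right h1).mul_right h2)
    have hrk : Odd (orderOf r) := Nat.not_even_iff_odd.1 fun he =>
      hFodd (he.two_dvd.trans (orderOf_dvd_natCard F hrF))
    set W₁ := fx φ (X₁ : Set H) with hW₁
    have hW₁inv : ∀ g : H, (∀ a ∈ X₁, a * g = g * a) → ∀ w ∈ W₁, φ g w ∈ W₁ :=
      fun g hg w hw a ha => by rw [← apply_mul, hg a ha, apply_mul, hw a ha]
    have hmove : ∃ w ∈ W₁, φ r w ≠ w := by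
      by_contra hcon
      push Not at hcon
      obtain ⟨w, hw⟩ : ∃ w, φ r w ≠ w := by
        by_contra h
        push Not at h
        exact hr1 (hinj (by rw [map_one]; exact MulEquiv.ext h))
      set D := (⊤ : Subgroup W).map (delt φ r) with hD
      have hDinv : ∀ a : X₁, ∀ d ∈ D, φ (a : H) d ∈ D := by
        rintro a _ ⟨u, -, rfl⟩
        refine ⟨φ (a : H) u, mem_top _, ?_⟩
        rw [delt_apply, delt_apply, map_div, ← apply_mul, ← apply_mul, hrX₁ a a.2]
      let inst : MulAction X₁ D :=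
        { smul := fun a d => ⟨φ (a : H) d, hDinv a d d.2⟩
          one_smul := fun d => Subtype.ext (by
            show φ ((1 : X₁) : H) (d : W) = d
            rw [OneMemClass.coe_one, map_one, MulAut.one_apply])
          mul_smul := fun a b d => Subtype.ext (by
            show φ ((a * b : X₁) : H) (d : W) = φ (a : H) (φ (b : H) (d : W))
            rw [Subgroup.coe_mul, apply_mul]) }
      have hdvd : 2 ∣ Nat.card D := by
        obtain ⟨k, hk⟩ := (isPGroup_of_sq hW D).exists_card_eq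
        rcases k with - | k
        · exfalso
          have : delt φ r w ∈ (⊥ : Subgroup W) := by
            rw [← Subgroup.card_eq_one.1 (hk.trans (pow_zero 2))]
            exact ⟨w, mem_top _, rfl⟩
          exact hw (div_eq_one.1 (mem_bot.1 this))
        · exact hk ▸ dvd_pow_self 2 (Nat.succ_ne_zero k)
      have h1 : (1 : D) ∈ MulAction.fixedPoints X₁ D := fun a => Subtype.ext (by
        show φ (a : H) ((1 : D) : W) = ((1 : D) : W)
        rw [OneMemClass.coe_one, map_one])
      obtain ⟨dd, hfix0, hd1⟩ :=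
        (hXp.to_le hX₁X).exists_fixed_point_of_prime_dvd_card_of_fixed_point D hdvd h1
      have hdW : (dd : W) ∈ W₁ := fun a ha => congrArg Subtype.val (hfix0 ⟨a, ha⟩)
      obtain ⟨u, _, hud⟩ := dd.2
      have h2 : φ r (dd : W) = dd := hcon _ hdW
      rw [← hud] at h2
      apply hd1
      refine Subtype.ext ?_
      show 1 = (dd : W)
      rw [← hud, delt_eq_one φ hW hrk (by rw [pow_orderOf_eq_one, map_one, MulAut.one_apply]) h2]
    have h4 : 4 ≤ (fx φ {y}).relIndex W₁ :=
      four_le hF hW W₁ y r (fun w _ => by rw [hyy, map_one, MulAut.one_apply])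
        (fun w _ => by rw [hinv, map_one, MulAut.one_apply])
        ⟨orderOf r, hrk, fun w _ => by rw [pow_orderOf_eq_one, map_one, MulAut.one_apply]⟩
        (hW₁inv y fun a ha => hcomm a (hX₁X ha) y hyX) (hW₁inv r hrX₁) hmove
    have hfix : fx φ {y} ⊓ W₁ = fx φ (X : Set H) := by
      refine le_antisymm (fun w hw a ha => ?_)
        (le_inf (fx_antitone φ (Set.singleton_subset_iff.2 hyX)) (fx_antitone φ hX₁X))
      let St : Subgroup H :=
        { carrier := {a | φ a w = w}
          one_mem' := by show φ 1 w = w; rw [map_one, MulAut.one_apply]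
          mul_mem' := fun {a b} (ha : φ a w = w) (hb : φ b w = w) => by
            show φ (a * b) w = w
            rw [apply_mul, hb, ha]
          inv_mem' := fun {a} (ha : φ a w = w) => by
            show φ a⁻¹ w = w
            nth_rw 1 [← ha]
            rw [← apply_mul, inv_mul_cancel, map_one, MulAut.one_apply] }
      have hle : X₁ ⊔ zpowers y ≤ St := sup_le hw.2 (zpowers_le.2 (hw.1 y rfl))
      have hsup : X ≤ X₁ ⊔ zpowers y := by
        have h1 := relIndex_mul_relIndex X₁ (X₁ ⊔ zpowers y) X le_sup_left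
          (sup_le hX₁X (zpowers_le.2 hyX))
        rw [hX₁i] at h1
        rw [← relIndex_eq_one]
        rcases (Nat.dvd_prime Nat.prime_two).1 (Dvd.intro _ h1) with h2 | h2
        · exact absurd (relIndex_eq_one.1 h2 (mem_sup_right (mem_zpowers y))) hy1
        · rw [h2] at h1; omega
      exact hle (hsup ha)
    have hindex : (fx φ (X : Set H)).index = (fx φ {y}).relIndex W₁ * W₁.index := by
      rw [← hfix, ← inf_relIndex_right, relIndex_mul_index inf_le_right]
    have hcX : Nat.card X = 2 * Nat.card X₁ := by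
      have h := relIndex_mul_relIndex ⊥ X₁ X bot_le hX₁X
      rw [relIndex_bot_left, relIndex_bot_left, hX₁i] at h
      rw [← h]; ring
    have hX₁lt : Nat.card X₁ ≤ n := by
      have := Nat.card_pos (α := X₁)
      omega
    obtain ⟨hIH, hIHeq⟩ := ih X₁ hX₁lt ⟨⟨⟨fun a b => Subtype.ext (hcomm _ (hX₁X a.2) _ (hX₁X b.2))⟩⟩,
      fun a ha => hX.2 a (hX₁X ha)⟩
    refine ⟨?_, fun heq _ => ?_⟩
    · rw [hindex, hcX, mul_pow]
      exact Nat.mul_le_mul h4 hIH
    · rw [hindex, hcX, mul_pow, show (2 : ℕ) ^ 2 = 4 from rfl] at heq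
      have hpos : 0 < W₁.index := Nat.pos_of_ne_zero (hfi _)
      have e4 : (fx φ {y}).relIndex W₁ = 4 := by
        nlinarith [Nat.mul_le_mul h4 (le_refl W₁.index), Nat.card_pos (α := X₁)]
      have e1 : Nat.card X₁ ^ 2 = W₁.index := by
        rw [e4] at heq
        omega
      by_cases hX₁b : X₁ = ⊥
      · subst hX₁b
        refine ⟨y, hyX, fun h => hy1 (h ▸ one_mem _), ?_⟩
        have htop : W₁ = ⊤ := by
          rw [← index_eq_one, ← e1, Subgroup.card_bot, one_pow]
        rw [← relIndex_top_right, ← htop]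
        exact e4
      · obtain ⟨x, hx, hx1, hxi⟩ := hIHeq e1 hX₁b
        exact ⟨x, hX₁X hx, hx1, hxi⟩

end CfsgLib.FourFree
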