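import Cfsg.Agent.Lib.PGroup.FourFree.PairLocal

/-!
# A normalised 2-subgroup common to `M` and a minimal group over its Sylow subgroup
-/

set_option autoImplicit false
set_option linter.style.haveILetI false
set_option linter.unusedSectionVars false

open Subgroup

namespace CfsgLib.FourFree

open CfsgLib.Fusion (conjBy)

universe u

variable {G : Type u} [Group G]

/-- Products `m p m p ⋯ m` of bounded length. -/
def words (M P : Subgroup G) : ℕ → Set G
  | 0 => M
  | j + 1 => {g | ∃ m ∈ M, ∃ p ∈ P, ∃ h ∈ words M P j, g = m * p * h}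

theorem words_succ_right {M P : Subgroup G} : ∀ (j : ℕ) (g : G), g ∈ words M P j →
    ∀ p ∈ P, ∀ m ∈ M, g * p * m ∈ words M P (j + 1)
  | 0, g, hg, p, hp, m, hm => ⟨g, hg, p, hp, m, hm, rfl⟩
  | j + 1, _, ⟨m₀, hm₀, p₀, hp₀, h, hh, rfl⟩, p, hp, m, hm =>
    ⟨m₀, hm₀, p₀, hp₀, h * p * m, words_succ_right j h hh p hp m hm, by group⟩

theorem words_succ_exists {M P : Subgroup G} : ∀ (j : ℕ) (g : G), g ∈ words M P (j + 1) →
    ∃ h ∈ words M P j, ∃ p ∈ P, ∃ m ∈ M, g = h * p * m
  | 0, _, ⟨m₀, hm₀, p₀, hp₀, h, hh, rfl⟩ => ⟨m₀, hm₀, p₀, hp₀, h, hh, rfl⟩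
  | j + 1, _, ⟨m₀, hm₀, p₀, hp₀, h, hh, rfl⟩ => by
    obtain ⟨h', hh', p, hp, m, hm, rfl⟩ := words_succ_exists j h hh
    exact ⟨m₀ * p₀ * h', ⟨m₀, hm₀, p₀, hp₀, h', hh', rfl⟩, p, hp, m, hm, by group⟩

theorem words_inv {M P : Subgroup G} : ∀ (j : ℕ) (g : G), g ∈ words M P j → g⁻¹ ∈ words M P j
  | 0, g, hg => M.inv_mem hg
  | j + 1, _, ⟨m₀, hm₀, p₀, hp₀, h, hh, rfl⟩ => by
    rw [show (m₀ * p₀ * h)⁻¹ = h⁻¹ * p₀⁻¹ * m₀⁻¹ by group]
    exact words_succ_right j _ (words_inv j h hh) _ (P.inv_mem hp₀) _ (M.inv_mem hm₀)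

theorem words_mul_left {M P : Subgroup G} {j : ℕ} {g : G} (hg : g ∈ words M P j) {a : G}
    (ha : a ∈ M ∨ a ∈ P) : a * g ∈ words M P (j + 1) := by
  rcases ha with ha | ha
  · exact ⟨a, ha, 1, P.one_mem, g, hg, by rw [mul_one]⟩
  · exact ⟨1, M.one_mem, a, ha, g, hg, by rw [one_mul]⟩

variable [Finite G]

/-- Two conjugates of `V` normalising each other commute. -/
theorem conj_le_centralizer {M V : Subgroup G} (hV : Cfsg.IsElementaryAbelian 2 V)
    (hq : ∀ X ≤ M, (∀ x ∈ X, x * x ∈ centralizer (V : Set G)) →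
      (centralizer (V : Set G)).relIndex X ^ 2 ≤ (centralizer (X : Set G)).relIndex V)
    {g : G} (h1 : conjBy g V ≤ M) (h2 : conjBy g⁻¹ V ≤ M) :
    conjBy g V ≤ centralizer (V : Set G) := by
  set a := (centralizer (V : Set G)).relIndex (conjBy g V)
  set b := (centralizer (conjBy g V : Set G)).relIndex V
  have hsq : ∀ h : G, ∀ x ∈ conjBy h V, x * x ∈ centralizer (V : Set G) := by
    rintro h _ ⟨v, hv, rfl⟩
    rw [← map_mul, ← pow_two, hV.2 v hv, map_one]
    exact one_mem _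
  have e1 : a ^ 2 ≤ b := hq _ h1 (hsq g)
  have e2 : b ^ 2 ≤ a := by
    have h := hq _ h2 (hsq g⁻¹)
    rw [← relIndex_centralizer_conjBy g, ← relIndex_centralizer_conjBy g (conjBy g⁻¹ V) V,
      CfsgLib.Fusion.conjBy_conjBy_inv] at h
    exact h
  have ha : a ≠ 0 := ((centralizer (V : Set G)).subgroupOf _).index_ne_zero_of_finite
  have ha1 : a = 1 := by
    have h4 : a ^ 4 ≤ a ^ 1 := by
      calc a ^ 4 = (a ^ 2) ^ 2 := by ring
        _ ≤ b ^ 2 := Nat.pow_le_pow_left e1 2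
        _ ≤ a ^ 1 := by rw [pow_one]; exact e2
    by_contra hne
    have : 2 ≤ a := by omega
    have := (Nat.pow_le_pow_iff_right (by omega : 1 < a)).1 h4
    omega
  exact relIndex_eq_one.1 ha1

theorem mem_normalizer_subgroupOf {P V : Subgroup G} (hVP : V ≤ P) {p : P} :
    p ∈ Subgroup.normalizer (V.subgroupOf P : Set P) ↔ (p : G) ∈ Subgroup.normalizer (V : Set G) := by
  constructor
  · intro h
    refine CfsgLib.Fusion.conjBy_eq_iff.1 (CfsgLib.Fusion.conjBy_eq_of_le
      (CfsgLib.Fusion.conjBy_le_iff.2 fun v hv => ?_))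
    exact (mem_normalizer_iff.1 h ⟨v, hVP hv⟩).1 hv
  · intro h
    refine mem_normalizer_iff.2 fun v => ?_
    exact mem_normalizer_iff.1 h v

theorem elementary_subgroupOf {P V : Subgroup G} (hV : Cfsg.IsElementaryAbelian 2 V) :
    Cfsg.IsElementaryAbelian 2 (V.subgroupOf P) :=
  ⟨⟨⟨fun a b => Subtype.ext (Subtype.ext (congrArg (Subtype.val : V → G)
      (hV.1.is_comm.comm (⟨((a : P) : G), a.2⟩ : V) ⟨((b : P) : G), b.2⟩)))⟩⟩,
    fun a ha => Subtype.ext (by rw [SubmonoidClass.coe_pow]; exact hV.2 _ ha)⟩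

/-- A nontrivial 2-subgroup of `T` normalised by `P` and by the normaliser in `M` of `C_T(V)`. -/
theorem exists_normalized {M P T V : Subgroup G} (hT : IsPGroup 2 T) (hTM : T ≤ M)
    (hTMi : ¬ 2 ∣ T.relIndex M) (hTP : T ≤ P) (hTPi : ¬ 2 ∣ T.relIndex P) (hVT : V ≤ T)
    (hV : Cfsg.IsElementaryAbelian 2 V) (hVne : V ≠ ⊥) (hNV : Subgroup.normalizer (V : Set G) = M)
    (hq : ∀ X ≤ M, (∀ x ∈ X, x * x ∈ centralizer (V : Set G)) →
      (centralizer (V : Set G)).relIndex X ^ 2 ≤ (centralizer (X : Set G)).relIndex V)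
    (hPM : ¬ P ≤ M) (hmin : ∀ K : Subgroup G, T ≤ K → K ≤ P → K ≠ P → K ≤ M)
    (hPs : Group.IsSolvable P) (hPf : ¬ Cfsg.Involves (Equiv.Perm (Fin 4)) P)
    (hPc : Cfsg.IsOfCharacteristicTwo P) :
    ∃ N : Subgroup G, N ≠ ⊥ ∧ IsPGroup 2 N ∧ P ≤ Subgroup.normalizer (N : Set G) ∧
      M ⊓ Subgroup.normalizer ((T ⊓ centralizer (V : Set G) : Subgroup G) : Set G) ≤
        Subgroup.normalizer (N : Set G) := by
  haveI := Fact.mk Nat.prime_two
  set V' := V.subgroupOf P with hV'
  have hVP : V ≤ P := hVT.trans hTP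
  let TS : Sylow 2 P := (hT.comap_subtype : IsPGroup 2 (T.subgroupOf P)).toSylow hTPi
  have hTS : (TS : Subgroup P) = T.subgroupOf P := rfl
  have hVmap : V'.map P.subtype = V := by rw [hV', subgroupOf_map_subtype, inf_eq_left.2 hVP]
  let d : Pair P :=
    { T := TS
      V := V'
      le := comap_mono hVT
      elem := elementary_subgroupOf hV
      norm := fun t ht => (mem_normalizer_subgroupOf hVP).2 (hNV.ge (hTM (show (t : G) ∈ T from ht)))
      proper := fun h => hPM fun p hp => by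
        have e := (mem_normalizer_subgroupOf hVP).1 (h.ge (mem_top (⟨p, hp⟩ : P)))
        rwa [hNV] at e
      minimal := fun K hTK hK k hk => by
        have hK' : K.map P.subtype ≠ P := fun h => hK (map_injective P.subtype_injective
          (h.trans (by rw [← MonoidHom.range_eq_map, range_subtype])))
        have hTK' : T ≤ K.map P.subtype := fun t ht => ⟨⟨t, hTP ht⟩, hTK ht, rfl⟩
        rw [mem_normalizer_subgroupOf hVP, hNV]
        exact hmin _ hTK' (map_subtype_le _) hK' ⟨k, hk, rfl⟩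
      solvable := hPs
      free := hPf
      constrained := hPc
      bound := fun X hX hXs => by
        have hXT : X.map P.subtype ≤ T := by
          rintro _ ⟨x, hx, rfl⟩
          exact (CfsgLib.Coprime.pCore_le_sylow TS) (hX hx)
        have h := hq _ (hXT.trans hTM) (by
          rintro _ ⟨x, hx, rfl⟩
          refine mem_centralizer_iff.2 fun v hv => ?_
          exact congrArg Subtype.val (mem_centralizer_iff.1 (hXs x hx) ⟨v, hVP hv⟩ hv))
        rwa [← hVmap, relIndex_centralizer_map _ P.subtype_injective,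
          relIndex_centralizer_map _ P.subtype_injective] at h }
  set U := d.U.map P.subtype with hU
  have hconjU : ∀ p ∈ P, conjBy p V ≤ U := by
    intro p hp
    refine CfsgLib.Fusion.conjBy_le_iff.2 fun v hv => ?_
    exact ⟨(⟨p, hp⟩ : P) * ⟨v, hVP hv⟩ * (⟨p, hp⟩ : P)⁻¹,
      d.conj_le_U ⟨p, hp⟩ (CfsgLib.Fusion.conj_mem_conjBy (hv : (⟨v, hVP hv⟩ : P) ∈ d.V)), rfl⟩
  have hUle : ∀ (g : G) (H : Subgroup G), (∀ p ∈ P, conjBy (g * p) V ≤ H) → conjBy g U ≤ H := by
    intro g H h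
    rw [hU, conjBy, Subgroup.map_map, Pair.U, Subgroup.map_iSup]
    refine iSup_le fun p => ?_
    rintro _ ⟨_, ⟨v, hv, rfl⟩, rfl⟩
    have h2 := h p p.2 (CfsgLib.Fusion.conj_mem_conjBy (g := g * p) (hv : ((v : P) : G) ∈ V))
    show g * ((p : G) * (v : P) * (p : G)⁻¹) * g⁻¹ ∈ H
    rw [show g * ((p : G) * (v : P) * (p : G)⁻¹) * g⁻¹ = (g * p) * (v : P) * (g * (p : G))⁻¹ by
      group]
    exact h2
  have two_sided : ∀ g : G, conjBy g U ≤ P → conjBy g⁻¹ U ≤ P →
      conjBy g U ≤ centralizer (U : Set G) := by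
    intro g hg hg'
    have hUe : Cfsg.IsElementaryAbelian 2 U := by
      refine ⟨⟨⟨fun a b => Subtype.ext ?_⟩⟩, ?_⟩
      · obtain ⟨a', ha, ea⟩ := a.2
        obtain ⟨b', hb, eb⟩ := b.2
        show (a : G) * b = b * a
        rw [← ea, ← eb, ← map_mul, ← map_mul]
        exact congrArg P.subtype (congrArg Subtype.val
          (d.U_elem.1.is_comm.comm (⟨a', ha⟩ : d.U) ⟨b', hb⟩))
      · rintro _ ⟨a, ha, rfl⟩
        rw [← map_pow, d.U_elem.2 a ha, map_one]
    have hconje : ∀ h : G, Cfsg.IsElementaryAbelian 2 (conjBy h U) := by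
      intro h
      refine ⟨⟨⟨fun a b => Subtype.ext ?_⟩⟩, ?_⟩
      · obtain ⟨a', ha, ea⟩ := a.2
        obtain ⟨b', hb, eb⟩ := b.2
        show (a : G) * b = b * a
        rw [← ea, ← eb, ← map_mul, ← map_mul]
        exact congrArg _ (congrArg Subtype.val (hUe.1.is_comm.comm (⟨a', ha⟩ : U) ⟨b', hb⟩))
      · rintro _ ⟨a, ha, rfl⟩
        rw [← map_pow, hUe.2 a ha, map_one]
    have hb : ∀ h : G, conjBy h U ≤ P → ∃ a b : ℕ,
        (centralizer (U : Set G)).relIndex (conjBy h U) ≤ a * b ∧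
        a ^ 2 ≤ (centralizer (conjBy h U : Set G)).relIndex U ∧
        b ^ 2 ≤ (centralizer (conjBy h U : Set G)).relIndex U ∧
        (a ^ 2 = (centralizer (conjBy h U : Set G)).relIndex U → b = a → a ≤ 1) := by
      intro h hh
      have e : ((conjBy h U).subgroupOf P).map P.subtype = conjBy h U := by
        rw [subgroupOf_map_subtype, inf_eq_left.2 hh]
      obtain ⟨a, b, h1, h2, h3, h4⟩ := d.bounds _ (elementary_subgroupOf (hconje h))
      rw [← relIndex_centralizer_map _ P.subtype_injective, ← hU, e] at h1 h2 h3 h4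
      exact ⟨a, b, h1, h2, h3, h4⟩
    obtain ⟨a, b, h1, h2, h3, h4⟩ := hb g hg
    obtain ⟨a', b', h1', h2', h3', -⟩ := hb g⁻¹ hg'
    set A := (centralizer (U : Set G)).relIndex (conjBy g U) with hA
    set A' := (centralizer (conjBy g U : Set G)).relIndex U with hA'
    have e1 : (centralizer (U : Set G)).relIndex (conjBy g⁻¹ U) = A' := by
      rw [← relIndex_centralizer_conjBy g, CfsgLib.Fusion.conjBy_conjBy_inv]
    have e2 : (centralizer (conjBy g⁻¹ U : Set G)).relIndex U = A := by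
      rw [← relIndex_centralizer_conjBy g, CfsgLib.Fusion.conjBy_conjBy_inv]
    rw [e1] at h1'
    rw [e2] at h2' h3'
    have hA0 : A ≠ 0 := ((centralizer (U : Set G)).subgroupOf _).index_ne_zero_of_finite
    have k1 : a * b ≤ A' := by
      refine (Nat.pow_le_pow_iff_left two_ne_zero).1 ?_
      calc (a * b) ^ 2 = a ^ 2 * b ^ 2 := mul_pow a b 2
        _ ≤ A' * A' := Nat.mul_le_mul h2 h3
        _ = A' ^ 2 := (pow_two A').symm
    have k2 : a' * b' ≤ A := by
      refine (Nat.pow_le_pow_iff_left two_ne_zero).1 ?_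
      calc (a' * b') ^ 2 = a' ^ 2 * b' ^ 2 := mul_pow a' b' 2
        _ ≤ A * A := Nat.mul_le_mul h2' h3'
        _ = A ^ 2 := (pow_two A).symm
    have k3 : a * b = A' := by omega
    have hb0 : 0 < b := Nat.pos_of_ne_zero fun h => by rw [h, mul_zero] at h1; omega
    have ha0 : 0 < a := Nat.pos_of_ne_zero fun h => by rw [h, zero_mul] at h1; omega
    have hab : a ≤ b := Nat.le_of_mul_le_mul_left (by rw [← pow_two, k3]; exact h2) ha0
    have hba : b ≤ a := Nat.le_of_mul_le_mul_right (by rw [← pow_two, k3]; exact h3) hb0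
    have hab' : b = a := le_antisymm hba hab
    have ha1 := h4 (by rw [← k3, hab', pow_two]) hab'
    refine relIndex_eq_one.1 ?_
    rw [← hA]
    have : a * b ≤ 1 * 1 := Nat.mul_le_mul ha1 (hab' ▸ ha1)
    omega
  -- the Sylow subgroup of the centraliser
  set C := centralizer (V : Set G) with hC
  have hCM : C ≤ M := (centralizer_le_normalizer _).trans hNV.le
  set TV := T ⊓ C with hTV
  have hTVi : ¬ 2 ∣ TV.relIndex C := by
    intro hd
    rw [hTV, inf_relIndex_right, ← relIndex_subgroupOf hCM] at hd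
    haveI : (C.subgroupOf M).Normal := by
      refine ⟨fun c hc m => mem_subgroupOf.2 (mem_centralizer_iff.2 fun v hv => ?_)⟩
      have hm : (m : G)⁻¹ * v * m ∈ V := by
        have h := (mem_normalizer_iff.1 (inv_mem (hNV.ge m.2)) v).1 hv
        rwa [inv_inv] at h
      have h := mem_centralizer_iff.1 (mem_subgroupOf.1 hc) _ hm
      show v * ((m : G) * c * (m : G)⁻¹) = (m : G) * c * (m : G)⁻¹ * v
      calc v * ((m : G) * c * (m : G)⁻¹) = m * ((m : G)⁻¹ * v * m * c) * (m : G)⁻¹ := by group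
        _ = (m : G) * c * (m : G)⁻¹ * v := by rw [h]; group
    exact hTMi (hd.trans (CfsgLib.PGroup.relIndex_dvd_index_normal_right _ _))
  set M' := M ⊓ Subgroup.normalizer (TV : Set G) with hM'
  have hTM' : T ≤ M' := le_inf hTM fun t ht =>
    CfsgLib.Fusion.conjBy_eq_iff.1 (CfsgLib.Fusion.conjBy_eq_of_le
      (CfsgLib.Fusion.conjBy_le_iff.2 fun x hx => mem_inf.2 ⟨mul_mem (mul_mem ht hx.1) (inv_mem ht),
        mem_centralizer_iff.2 fun v hv => by
          have hm : t⁻¹ * v * t ∈ V := by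
            have h := (mem_normalizer_iff.1 (inv_mem (hNV.ge (hTM ht))) v).1 hv
            rwa [inv_inv] at h
          have h := mem_centralizer_iff.1 hx.2 _ hm
          calc v * (t * x * t⁻¹) = t * (t⁻¹ * v * t * x) * t⁻¹ := by group
            _ = t * x * t⁻¹ * v := by rw [h]; group⟩))
  -- conjugates of `V` along the amalgam stay in `T`
  have hAB : ∀ j, (∀ g ∈ words M' P j, conjBy g V ≤ M') → ∀ g ∈ words M' P j, conjBy g V ≤ T := by
    intro j hA g hg
    have hgC : conjBy g V ≤ C := conj_le_centralizer hV hq ((hA g hg).trans inf_le_left)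
      ((hA _ (words_inv j g hg)).trans inf_le_left)
    have hgp : IsPGroup 2 (conjBy g V) := CfsgLib.Fusion.isPGroup_conjBy g (hT.to_le hVT)
    have hsup : IsPGroup 2 (TV ⊔ conjBy g V : Subgroup G) :=
      (hT.to_le inf_le_left).to_sup_of_normal_left' hgp ((hA g hg).trans inf_le_right)
    have e := CfsgLib.Fusion.eq_of_le_of_isPGroup_of_not_dvd_relIndex hsup le_sup_left
      (sup_le inf_le_right hgC) hTVi
    exact (le_sup_right.trans e.le).trans inf_le_left
  have hA : ∀ j, ∀ g ∈ words M' P j, conjBy g V ≤ M' := by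
    intro j
    induction j using Nat.strong_induction_on with
    | _ j ih =>
    rcases j with - | j
    · intro g hg
      rw [CfsgLib.Fusion.conjBy_eq_iff.2 (hNV.ge (hg : g ∈ M').1)]
      exact hVT.trans hTM'
    · rintro _ ⟨m, hm, p, hp, h, hh, rfl⟩
      -- the conjugate by `h` lies in `O₂(P)`
      have hQ : (conjBy h V).subgroupOf P ≤ Cfsg.pCore 2 P := by
        rcases j with - | i
        · rw [CfsgLib.Fusion.conjBy_eq_iff.2 (hNV.ge (hh : h ∈ M').1)]
          exact d.V_le_pCore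
        obtain ⟨x, hx, p', hp', m', hm', rfl⟩ := words_succ_exists i h hh
        have hB : ∀ g ∈ words M' P (i + 1), conjBy g V ≤ T := hAB _ (ih (i + 1) (by omega))
        have hside : ∀ x ∈ words M' P i, conjBy x U ≤ T := fun x hx =>
          hUle x T fun q hq => by
            have := hB _ (words_succ_right i x hx q hq 1 (one_mem _))
            rwa [mul_one] at this
        have hxU := two_sided x ((hside x hx).trans hTP) ((hside _ (words_inv i x hx)).trans hTP)
        have hle : conjBy (x * p' * m') V ≤ conjBy x U := by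
          rw [← CfsgLib.Fusion.conjBy_conjBy, CfsgLib.Fusion.conjBy_eq_iff.2 (hNV.ge hm'.1),
            ← CfsgLib.Fusion.conjBy_conjBy]
          exact CfsgLib.Fusion.conjBy_mono (hconjU p' hp')
        intro z hz
        have hzC : z ∈ centralizer (d.U : Set P) := mem_centralizer_iff.2 fun u hu =>
          Subtype.ext (mem_centralizer_iff.1 (hxU (hle hz)) u ⟨u, hu, rfl⟩)
        have hzE : z ∈ d.E := by
          refine (normal_le_normalCore.2 ?_ : centralizer (d.U : Set P) ≤ d.E) hzC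
          exact d.centralizer_U_le
        exact d.inf_E_le (mem_inf.2 ⟨(hside x hx) (hle hz), hzE⟩)
      rw [← CfsgLib.Fusion.conjBy_conjBy, ← CfsgLib.Fusion.conjBy_conjBy]
      have hm' : conjBy m (M' : Subgroup G) ≤ M' :=
        CfsgLib.Fusion.conjBy_le_iff.2 fun a ha => mul_mem (mul_mem hm ha) (inv_mem hm)
      refine (CfsgLib.Fusion.conjBy_mono ?_).trans hm'
      refine CfsgLib.Fusion.conjBy_le_iff.2 fun z hz => hTM' ?_
      have hhT : conjBy h V ≤ T := hAB j (ih j (by omega)) h hh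
      have h1 := (pCore_two_normal (P := P)).conj_mem _
        (hQ (show (⟨z, hTP (hhT hz)⟩ : P) ∈ (conjBy h V).subgroupOf P from hz)) ⟨p, hp⟩
      exact CfsgLib.Coprime.pCore_le_sylow TS h1
  -- the normalised subgroup
  set N := ⨆ g : ↥(⋃ j, words M' P j), conjBy (g : G) V with hN
  have hNT : N ≤ T := iSup_le fun g => by
    obtain ⟨j, hj⟩ := Set.mem_iUnion.1 g.2
    exact hAB j (hA j) g hj
  have hnorm : ∀ a : G, a ∈ M' ∨ a ∈ P → a ∈ Subgroup.normalizer (N : Set G) := by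
    intro a ha
    refine CfsgLib.Fusion.conjBy_eq_iff.1 (CfsgLib.Fusion.conjBy_eq_of_le ?_)
    rw [hN, conjBy, Subgroup.map_iSup]
    refine iSup_le fun g => ?_
    obtain ⟨j, hj⟩ := Set.mem_iUnion.1 g.2
    show conjBy a (conjBy (g : G) V) ≤ _
    rw [CfsgLib.Fusion.conjBy_conjBy]
    exact le_iSup (fun g : ↥(⋃ j, words M' P j) => conjBy (g : G) V)
      ⟨a * g, Set.mem_iUnion.2 ⟨j + 1, words_mul_left hj ha⟩⟩
  refine ⟨N, fun h => hVne (eq_bot_iff.2 ?_), hT.to_le hNT, fun p hp => hnorm p (Or.inr hp),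
    fun m hm => hnorm m (Or.inl hm)⟩
  rw [← h, hN]
  refine le_trans ?_ (le_iSup (fun g : ↥(⋃ j, words M' P j) => conjBy (g : G) V)
    ⟨1, Set.mem_iUnion.2 ⟨0, M'.one_mem⟩⟩)
  rw [CfsgLib.Fusion.conjBy_one]

/-- `M = C_M(V) N_M(C_T(V))`. -/
theorem exists_frattini {M T V : Subgroup G} (hT : IsPGroup 2 T) (hTM : T ≤ M)
    (hTMi : ¬ 2 ∣ T.relIndex M) (hNV : Subgroup.normalizer (V : Set G) = M) {m : G} (hm : m ∈ M) :
    ∃ c ∈ centralizer (V : Set G), ∃ m' ∈ M ⊓ Subgroup.normalizer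
      ((T ⊓ centralizer (V : Set G) : Subgroup G) : Set G), m = c * m' := by
  haveI := Fact.mk Nat.prime_two
  set C := centralizer (V : Set G) with hC
  have hCM : C ≤ M := (centralizer_le_normalizer _).trans hNV.le
  have hconjC : ∀ a ∈ M, conjBy a C = C := by
    intro a ha
    rw [hC, CfsgLib.Fusion.conjBy_centralizer, CfsgLib.Fusion.conjBy_eq_iff.2 (hNV.ge ha)]
  set TV := T ⊓ C with hTV
  have hTVi : ¬ 2 ∣ TV.relIndex C := by
    intro hd
    rw [hTV, inf_relIndex_right, ← relIndex_subgroupOf hCM] at hd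
    haveI : (C.subgroupOf M).Normal := by
      refine (normal_subgroupOf_iff_le_normalizer hCM).2 fun a ha => ?_
      exact CfsgLib.Fusion.conjBy_eq_iff.1 (hconjC a ha)
    exact hTMi (hd.trans (CfsgLib.PGroup.relIndex_dvd_index_normal_right _ _))
  obtain ⟨h, hh, hle⟩ := CfsgLib.Fusion.exists_conj_le_of_not_dvd_relIndex (hT.to_le inf_le_left)
    inf_le_right hTVi (CfsgLib.Fusion.isPGroup_conjBy m (hT.to_le inf_le_left : IsPGroup 2 TV))
    ((CfsgLib.Fusion.conjBy_mono inf_le_right).trans (hconjC m hm).le)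
  rw [CfsgLib.Fusion.conjBy_conjBy] at hle
  exact ⟨h⁻¹, inv_mem hh, h * m, mem_inf.2 ⟨mul_mem (hCM hh) hm,
    CfsgLib.Fusion.conjBy_eq_iff.1 (CfsgLib.Fusion.conjBy_eq_of_le hle)⟩, by group⟩

end CfsgLib.FourFree
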