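import Cfsg.Agent.Lib.PGroup.FourFree.Sections
import Cfsg.Agent.Lib.Fusion.FourSection
import Cfsg.Agent.Lib.Fusion.Sylow

/-!
# Conjugation actions in groups in which `S₄` is not involved
-/

set_option autoImplicit false
set_option linter.style.haveILetI false
set_option linter.unusedSectionVars false

open Subgroup

namespace CfsgLib.FourFree

/-- Conjugation in a group not involving `S₄` has no four-group section acted on as by `S₃`. -/
theorem free_of_conj {H G Y : Type*} [Group H] [Finite H] [Group G] [Finite G] [CommGroup Y]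
    [Finite Y] (hG : ¬ Cfsg.Involves (Equiv.Perm (Fin 4)) G) (κ : H →* G) (ι : Y →* G)
    (hι : Function.Injective ι) {φ : H →* MulAut Y} (hY : ∀ y : Y, y * y = 1)
    (hc : ∀ (h : H) (y : Y), ι (φ h y) = κ h * ι y * (κ h)⁻¹) : Free φ := by
  classical
  rintro x r A B hAB hidx hAx hAr hBx hBr hxx hinv ⟨k, hk, hkB⟩ b hb
  by_contra hne
  let H₀ : Subgroup H :=
    { carrier := {h | (∀ a ∈ A, φ h a ∈ A) ∧ ∀ b ∈ B, φ h b ∈ B}
      one_mem' := ⟨fun a ha => by rwa [map_one, MulAut.one_apply],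
        fun a ha => by rwa [map_one, MulAut.one_apply]⟩
      mul_mem' := fun {p q} hp hq => ⟨fun a ha => by rw [apply_mul]; exact hp.1 _ (hq.1 a ha),
        fun a ha => by rw [apply_mul]; exact hp.2 _ (hq.2 a ha)⟩
      inv_mem' := fun {p} hp => ⟨inv_invariant φ hp.1, inv_invariant φ hp.2⟩ }
  have hA : Inv (φ.comp H₀.subtype) A := fun h => h.2.1
  have hB : Inv (φ.comp H₀.subtype) B := fun h => h.2.2
  set ψ := secHom (φ.comp H₀.subtype) hA hB with hψ
  let xx : H₀ := ⟨x, hAx, hBx⟩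
  let rr : H₀ := ⟨r, hAr, hBr⟩
  have hiff : ∀ (h : H₀) (y : B),
      ψ h (QuotientGroup.mk y) = QuotientGroup.mk y ↔ φ (h : H) y / y ∈ A :=
    fun h y => secHom_mk_eq_iff (φ.comp H₀.subtype) hA hB h y
  have hone : ∀ h : H₀, (∀ y ∈ B, φ (h : H) y / y ∈ A) → ψ h = 1 := fun h hh =>
    MulEquiv.ext fun q => by
      obtain ⟨y, rfl⟩ := QuotientGroup.mk_surjective q
      exact (hiff h y).2 (hh y y.2)
  have hback : ∀ h : H₀, ψ h = 1 → ∀ y ∈ B, φ (h : H) y / y ∈ A := fun h hh y hy =>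
    (hiff h ⟨y, hy⟩).1 (by rw [hh, MulAut.one_apply])
  set a := ψ xx with ha
  set c := ψ rr with hcdef
  have ha2 : a * a = 1 := by rw [ha, ← map_mul]; exact hone _ hxx
  have hinv' : a * c * a⁻¹ * c = 1 := by
    rw [ha, hcdef, ← map_mul, ← map_inv, ← map_mul, ← map_mul]; exact hone _ hinv
  have hck : c ^ k = 1 := by
    rw [hcdef, ← map_pow]; exact hone _ (by simpa [rr] using hkB)
  have hai : a⁻¹ = a := inv_eq_of_mul_eq_one_right ha2
  have hsq := sq_quotient hY A B
  set qb : B ⧸ A.subgroupOf B := QuotientGroup.mk ⟨b, hb⟩ with hqb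
  have hcb : c qb ≠ qb := fun h => hne ((hiff rr ⟨b, hb⟩).1 h)
  have hcard : Nat.card (B ⧸ A.subgroupOf B) = 4 := by rw [← index_eq_card]; exact hidx
  -- `c` has no fixed point
  have hfpf : ∀ q, c q = q → q = 1 := by
    intro q hq
    by_contra hq1
    set δ := delt ψ rr with hδ
    have hdelt : ∀ w, ψ rr (δ w) = δ w → δ w = 1 := fun w hw =>
      delt_eq_one ψ hsq hk (by rw [map_pow, ← hcdef, hck, MulAut.one_apply]) hw
    have hprod : Nat.card δ.ker * Nat.card δ.range = 4 := by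
      rw [← index_ker, card_mul_index, hcard]
    haveI hk1 : Nontrivial δ.ker := by
      refine ⟨⟨q, ?_⟩, 1, fun h => hq1 (congrArg Subtype.val h)⟩
      rw [MonoidHom.mem_ker, hδ, delt_apply, ← hcdef, hq, div_self']
    have hqb' : δ qb ≠ 1 := fun h => hcb (div_eq_one.1 h)
    haveI hr1 : Nontrivial δ.range :=
      ⟨⟨δ qb, qb, rfl⟩, 1, fun h => hqb' (congrArg Subtype.val h)⟩
    have h1 := Finite.one_lt_card (α := δ.ker)
    have h2 := Finite.one_lt_card (α := δ.range)
    have hR2 : Nat.card δ.range = 2 := by nlinarith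
    obtain ⟨d, hd, hdu⟩ := (Nat.card_eq_two_iff' (1 : δ.range)).1 hR2
    have hd' : (⟨δ qb, qb, rfl⟩ : δ.range) = d :=
      hdu _ fun h => hqb' (congrArg Subtype.val h)
    have hrd : δ (c qb) = c (δ qb) := by
      rw [hδ, delt_apply, delt_apply, map_div]
    have hd'' : (⟨δ (c qb), c qb, rfl⟩ : δ.range) = d := by
      refine hdu _ fun h => hqb' ((c).injective ?_)
      have := congrArg Subtype.val h
      rw [map_one, ← hrd]
      exact this
    refine hqb' (hdelt _ ?_)
    rw [← hcdef, ← hrd]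
    exact congrArg Subtype.val (hd''.trans hd'.symm)
  -- `c` has order three
  have hc3 : c * c * c = 1 := by
    refine MulEquiv.ext fun q => ?_
    rw [MulAut.mul_apply, MulAut.mul_apply, MulAut.one_apply]
    by_contra h3
    have hq1 : q ≠ 1 := fun h => h3 (by rw [h, map_one, map_one, map_one])
    have hcne : ∀ z, z ≠ 1 → c z ≠ 1 := fun z hz h => hz (c.injective (h.trans (map_one c).symm))
    have h01 : c q ≠ q := fun h => hq1 (hfpf q h)
    have h02 : c (c q) ≠ q := by
      intro h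
      obtain ⟨j, hj⟩ := hk
      have h' : ∀ i : ℕ, (c ^ (2 * i)) q = q := by
        intro i
        induction i with
        | zero => rfl
        | succ i ih =>
          rw [show 2 * (i + 1) = 2 + 2 * i by ring, pow_add, MulAut.mul_apply, ih, pow_two,
            MulAut.mul_apply, h]
      have h1 : (c ^ k) q = q := by rw [hck, MulAut.one_apply]
      rw [hj, pow_succ', MulAut.mul_apply, h'] at h1
      exact h01 h1
    have h12 : c (c q) ≠ c q := fun h => h01 (c.injective h)
    have h13 : c (c (c q)) ≠ c q := fun h => h02 (c.injective h)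
    have h23 : c (c (c q)) ≠ c (c q) := fun h => h12 (c.injective h)
    letI := Fintype.ofFinite (B ⧸ A.subgroupOf B)
    have h5 : ({1, q, c q, c (c q), c (c (c q))} : Finset (B ⧸ A.subgroupOf B)).card = 5 := by
      have e1 := hcne q hq1
      have e2 := hcne _ e1
      have e3 := hcne _ e2
      rw [Finset.card_insert_of_notMem (by simp [hq1.symm, e1.symm, e2.symm, e3.symm]),
        Finset.card_insert_of_notMem (by simp [Ne.symm h01, Ne.symm h02, Ne.symm h3]),
        Finset.card_insert_of_notMem (by simp [Ne.symm h12, Ne.symm h13]),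
        Finset.card_insert_of_notMem (by simp [Ne.symm h23]), Finset.card_singleton]
    have h6 := Finset.card_le_univ ({1, q, c q, c (c q), c (c (c q))} : Finset (B ⧸ A.subgroupOf B))
    rw [Nat.card_eq_fintype_card] at hcard
    omega
  -- transport to `G`
  set Q := A.map ι with hQ
  set U := B.map ι with hU
  have hmemQ : ∀ {y : Y}, ι y ∈ Q ↔ y ∈ A := fun {_} => mem_map_iff_mem hι
  have hnorm : ∀ (h : H) (D : Subgroup Y), (∀ d ∈ D, φ h d ∈ D) →
      κ h ∈ Subgroup.normalizer (D.map ι : Set G) := by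
    intro h D hD
    refine CfsgLib.Fusion.conjBy_eq_iff.1 (CfsgLib.Fusion.conjBy_eq_of_le
      (CfsgLib.Fusion.conjBy_le_iff.2 ?_))
    rintro _ ⟨d, hd, rfl⟩
    rw [← hc]
    exact mem_map_of_mem ι (hD d hd)
  have hdiv : ∀ (h : H) (y : Y), φ h y / y ∈ A → ι (φ h y) * (ι y)⁻¹ ∈ Q := fun h y hy => by
    rw [← map_inv, ← map_mul, ← div_eq_mul_inv]
    exact hmemQ.2 hy
  refine hG (CfsgLib.Fusion.involves_of_fourCond Q U (κ x) (κ (x * r)) (map_mono hAB) ?_ ?_
    (hnorm x A hAx) (hnorm x B hBx) (hnorm _ A (xx * rr).2.1) (hnorm _ B (xx * rr).2.2)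
    ⟨?_, ?_, ?_, ?_, ?_⟩)
  · rintro _ ⟨y, -, rfl⟩
    refine CfsgLib.Fusion.conjBy_eq_iff.1 (CfsgLib.Fusion.conjBy_eq_of_le
      (CfsgLib.Fusion.conjBy_le_iff.2 ?_))
    rintro _ ⟨d, hd, rfl⟩
    rw [← map_inv, ← map_mul, ← map_mul, mul_comm y d, mul_inv_cancel_right]
    exact mem_map_of_mem ι hd
  · rw [hQ, hU, relIndex_map_map_of_injective _ _ hι, hidx]
  · rintro _ ⟨y, hy, rfl⟩
    show κ x * (κ x * ι y * (κ x)⁻¹) * (κ x)⁻¹ * (ι y)⁻¹ ∈ Q
    rw [← hc, ← hc, ← apply_mul]
    exact hdiv _ y (hxx y hy)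
  · rintro _ ⟨y, hy, rfl⟩
    show κ (x * r) * (κ (x * r) * ι y * (κ (x * r))⁻¹) * (κ (x * r))⁻¹ * (ι y)⁻¹ ∈ Q
    rw [← hc, ← hc, ← apply_mul]
    refine hdiv _ y (hback (xx * rr * (xx * rr)) ?_ y hy)
    rw [map_mul, map_mul, ← ha, ← hcdef]
    calc a * c * (a * c) = a * c * a⁻¹ * c := by rw [hai]; group
      _ = 1 := hinv'
  · rintro _ ⟨y, hy, rfl⟩
    show κ x * (κ (x * r) * (κ x * (κ (x * r) * (κ x * (κ (x * r) * ι y * (κ (x * r))⁻¹) *
      (κ x)⁻¹) * (κ (x * r))⁻¹) * (κ x)⁻¹) * (κ (x * r))⁻¹) * (κ x)⁻¹ * (ι y)⁻¹ ∈ Q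
    simp only [← hc, ← apply_mul]
    refine hdiv _ y (hback (xx * (xx * rr * (xx * (xx * rr * (xx * (xx * rr)))))) ?_ y hy)
    simp only [map_mul]
    rw [← ha, ← hcdef]
    calc a * (a * c * (a * (a * c * (a * (a * c))))) = (a * a) * c * ((a * a) * c) * ((a * a) * c) := by group
      _ = 1 := by rw [ha2, one_mul, hc3]
  · rintro _ ⟨y, hy, rfl⟩ hfix
    change κ x * (κ (x * r) * ι y * (κ (x * r))⁻¹) * (κ x)⁻¹ * (ι y)⁻¹ ∈ Q at hfix
    rw [← hc, ← hc, ← apply_mul, ← map_inv, ← map_mul, ← div_eq_mul_inv, hmemQ] at hfix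
    refine hmemQ.2 ?_
    have h1 : c (QuotientGroup.mk ⟨y, hy⟩) = QuotientGroup.mk ⟨y, hy⟩ := by
      have h2 := (hiff (xx * (xx * rr)) ⟨y, hy⟩).2 hfix
      rwa [map_mul, map_mul, ← ha, ← hcdef, ← mul_assoc, ha2, one_mul] at h2
    exact mem_subgroupOf.1 ((QuotientGroup.eq_one_iff _).1 (hfpf _ h1))
  · by_contra hcon
    push Not at hcon
    have ha1 : a = 1 := hone xx fun y hy => by
      have h := hcon (ι y) (mem_map_of_mem ι hy)
      rw [← hc, ← map_inv, ← map_mul, ← div_eq_mul_inv, hmemQ] at h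
      exact h
    rw [ha1, inv_one, one_mul, mul_one] at hinv'
    refine hcb ?_
    obtain ⟨j, hj⟩ := hk
    rw [hj, pow_succ, pow_mul, pow_two, hinv', one_pow, one_mul] at hck
    rw [hck, MulAut.one_apply]

variable {G : Type*} [Group G]

/-- An elementary abelian subgroup as a commutative group. -/
abbrev commGroupOf {p : ℕ} {U : Subgroup G} (h : Cfsg.IsElementaryAbelian p U) : CommGroup U :=
  { (inferInstance : Group U) with mul_comm := fun a b => h.1.is_comm.comm a b }

theorem sq_of_elementary {U : Subgroup G} (h : Cfsg.IsElementaryAbelian 2 U) (u : U) : u * u = 1 :=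
  Subtype.ext (by rw [coe_mul, ← pow_two]; exact h.2 u u.2)

/-- The action of a subgroup on a subgroup it normalises. -/
def conjHom {U P : Subgroup G} (hPU : P ≤ Subgroup.normalizer (U : Set G)) : P →* MulAut U :=
  U.normalizerMonoidHom.comp (Subgroup.inclusion hPU)

theorem conjHom_apply {U P : Subgroup G} (hPU : P ≤ Subgroup.normalizer (U : Set G)) (p : P)
    (u : U) : ((conjHom hPU p u : U) : G) = p * u * (p : G)⁻¹ := rfl

theorem conjHom_eq_self_iff {U P : Subgroup G} (hPU : P ≤ Subgroup.normalizer (U : Set G)) (p : P)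
    (u : U) : conjHom hPU p u = u ↔ (p : G) * u = u * p := by
  rw [← Subtype.coe_inj, conjHom_apply, mul_inv_eq_iff_eq_mul]

theorem relIndex_centralizer_map {G' : Type*} [Group G'] (f : G' →* G) (hf : Function.Injective f)
    (A B : Subgroup G') :
    (centralizer (A.map f : Set G)).relIndex (B.map f) = (centralizer (A : Set G')).relIndex B := by
  rw [← relIndex_comap]
  congr 1
  ext z
  simp only [mem_comap, mem_centralizer_iff, Subgroup.coe_map, Set.forall_mem_image, ← map_mul]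
  exact forall₂_congr fun a _ => hf.eq_iff

theorem relIndex_centralizer_conjBy (g : G) (A B : Subgroup G) :
    (centralizer (CfsgLib.Fusion.conjBy g A : Set G)).relIndex (CfsgLib.Fusion.conjBy g B) =
      (centralizer (A : Set G)).relIndex B :=
  relIndex_centralizer_map _ (MulAut.conj g).injective A B

end CfsgLib.FourFree
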