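import Cfsg.Agent.Lib.PGroup.FourFree.Reduced
import Cfsg.Agent.Lib.LocalStructure.Basic

/-!
# A minimal group over a Sylow 2-subgroup normalising a module
-/

set_option autoImplicit false
set_option linter.style.haveILetI false
set_option linter.unusedSectionVars false

open Subgroup

namespace CfsgLib.FourFree

open CfsgLib.Fusion (conjBy)

universe u

/-- `P` is minimal over its Sylow subgroup `T` outside the normaliser of `V ≤ T`. -/
structure Pair (P : Type u) [Group P] [Finite P] where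
  T : Sylow 2 P
  V : Subgroup P
  le : V ≤ (T : Subgroup P)
  elem : Cfsg.IsElementaryAbelian 2 V
  norm : (T : Subgroup P) ≤ Subgroup.normalizer (V : Set P)
  proper : Subgroup.normalizer (V : Set P) ≠ ⊤
  minimal : ∀ K : Subgroup P, (T : Subgroup P) ≤ K → K ≠ ⊤ → K ≤ Subgroup.normalizer (V : Set P)
  solvable : Group.IsSolvable P
  free : ¬ Cfsg.Involves (Equiv.Perm (Fin 4)) P
  constrained : centralizer (Cfsg.pCore 2 P : Set P) ≤ Cfsg.pCore 2 P
  bound : ∀ X ≤ Cfsg.pCore 2 P, (∀ x ∈ X, x * x ∈ centralizer (V : Set P)) →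
    (centralizer (V : Set P)).relIndex X ^ 2 ≤ (centralizer (X : Set P)).relIndex V

variable {P : Type u} [Group P] [Finite P]

/-- `O₂(P)`, as a normal subgroup. -/
instance pCore_two_normal : (Cfsg.pCore 2 P).Normal := CfsgLib.Coprime.pCore_normal' 2

/-- A 2-element is conjugate into a given Sylow subgroup. -/
theorem exists_conj_mem (T : Sylow 2 P) {x : P} (hx : x * x = 1) :
    ∃ g : P, g * x * g⁻¹ ∈ (T : Subgroup P) := by
  haveI := Fact.mk Nat.prime_two
  have hp : IsPGroup 2 (zpowers x) := IsPGroup.of_card_dvd_pow (n := 1) (by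
    rw [Nat.card_zpowers, pow_one]
    exact orderOf_dvd_of_pow_eq_one (by rw [pow_two]; exact hx))
  obtain ⟨S, hS⟩ := hp.exists_le_sylow
  obtain ⟨g, rfl⟩ := MulAction.exists_smul_eq P S T
  exact ⟨g, ⟨x, hS (mem_zpowers x), rfl⟩⟩

/-- A normal subgroup that is a 2-group modulo `C` lies in `C` times a Sylow subgroup. -/
theorem le_sup_sylow (T : Sylow 2 P) (C D : Subgroup P) [C.Normal] [hDn : D.Normal]
    (h : ∀ d ∈ D, ∃ k : ℕ, d ^ 2 ^ k ∈ C) : D ≤ C ⊔ (T : Subgroup P) := by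
  haveI := Fact.mk Nat.prime_two
  set π := QuotientGroup.mk' C
  have hDp : IsPGroup 2 (D.map π) := by
    rintro ⟨_, d, hd, rfl⟩
    obtain ⟨k, hk⟩ := h d hd
    refine ⟨k, Subtype.ext ?_⟩
    show π d ^ 2 ^ k = 1
    rw [← map_pow]
    exact (QuotientGroup.eq_one_iff _).2 hk
  haveI : (D.map π).Normal := hDn.map π (QuotientGroup.mk'_surjective C)
  intro d hd
  have h1 := (CfsgLib.Coprime.le_pCore hDp).trans (CfsgLib.Coprime.pCore_le_sylow
    (T.mapSurjective (QuotientGroup.mk'_surjective C))) (mem_map_of_mem π hd)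
  rw [Sylow.coe_mapSurjective] at h1
  obtain ⟨t, ht, htd⟩ := h1
  have h2 : t⁻¹ * d ∈ C := QuotientGroup.eq.1 htd
  rw [show d = t * (t⁻¹ * d) by group]
  exact mul_mem (mem_sup_right ht) (mem_sup_left h2)

namespace Pair

variable (d : Pair P)

/-- The kernel of `P` on the cosets of `N_P(V)`. -/
def E : Subgroup P := (Subgroup.normalizer (d.V : Set P)).normalCore

instance E_normal : d.E.Normal := normalCore_normal _

theorem E_le : d.E ≤ Subgroup.normalizer (d.V : Set P) := normalCore_le _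

theorem pCore_le_T : Cfsg.pCore 2 P ≤ (d.T : Subgroup P) :=
  haveI := Fact.mk Nat.prime_two
  CfsgLib.Coprime.pCore_le_sylow d.T

theorem pCore_le_E : Cfsg.pCore 2 P ≤ d.E :=
  normal_le_normalCore.2 (d.pCore_le_T.trans d.norm)

theorem sup_T_eq_top {L : Subgroup P} [L.Normal] (hL : ¬ L ≤ d.E) :
    L ⊔ (d.T : Subgroup P) = ⊤ := by
  by_contra h
  exact hL (normal_le_normalCore.2 (le_sup_left.trans (d.minimal _ le_sup_right h)))

/-- The Sylow subgroup of `E` is `O₂(P)`. -/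
theorem inf_E_le : (d.T : Subgroup P) ⊓ d.E ≤ Cfsg.pCore 2 P := by
  haveI := Fact.mk Nat.prime_two
  obtain ⟨R, hR⟩ := CfsgLib.LS.sylow_inf_normal d.T d.E
  set S := (d.T : Subgroup P) ⊓ d.E with hS
  have hsup : Subgroup.normalizer (S : Set P) ⊔ d.E = ⊤ := by
    rw [← hR]
    exact Sylow.normalizer_sup_eq_top R
  have hT : (d.T : Subgroup P) ≤ Subgroup.normalizer (S : Set P) := by
    intro t ht
    refine CfsgLib.Fusion.conjBy_eq_iff.1 (CfsgLib.Fusion.conjBy_eq_of_le
      (CfsgLib.Fusion.conjBy_le_iff.2 fun s hs => ?_))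
    exact mem_inf.2 ⟨mul_mem (mul_mem ht hs.1) (inv_mem ht), d.E_normal.conj_mem s hs.2 t⟩
  have hN : Subgroup.normalizer (S : Set P) = ⊤ := by
    by_contra h
    exact d.proper (top_le_iff.1 (hsup.ge.trans (sup_le (d.minimal _ hT h) d.E_le)))
  haveI : S.Normal := normalizer_eq_top_iff.1 hN
  exact CfsgLib.Coprime.le_pCore (d.T.2.to_le inf_le_left)

theorem mem_pCore_of_mem_E {x : P} (hx : x ∈ d.E) (hxx : x * x = 1) : x ∈ Cfsg.pCore 2 P := by
  obtain ⟨g, hg⟩ := exists_conj_mem d.T hxx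
  have h := d.inf_E_le ⟨hg, d.E_normal.conj_mem x hx g⟩
  have h2 := pCore_two_normal.conj_mem _ h g⁻¹
  rw [inv_inv, show g⁻¹ * (g * x * g⁻¹) * g = x by group] at h2
  exact h2

/-- An involution outside `E` centralizes no normal subgroup modulo `E`. -/
theorem not_stab (L : Subgroup P) (hLn : L.Normal) (hL : ¬ L ≤ d.E) (x : P) (hxx : x * x = 1)
    (hxE : x ∉ d.E) : ∃ l ∈ L, l * x * l⁻¹ * x⁻¹ ∉ d.E := by
  haveI := hLn
  by_contra hcon
  push Not at hcon
  set π := QuotientGroup.mk' d.E with hπ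
  haveI : (L.map π).Normal := hLn.map π (QuotientGroup.mk'_surjective _)
  set C := (centralizer (L.map π : Set (P ⧸ d.E))).comap π with hC
  haveI hCn : C.Normal := Normal.comap inferInstance _
  have hmem : ∀ p, p ∈ C ↔ ∀ l ∈ L, l * p * l⁻¹ * p⁻¹ ∈ d.E := by
    intro p
    rw [hC, mem_comap, mem_centralizer_iff]
    simp only [Subgroup.coe_map, Set.forall_mem_image, SetLike.mem_coe]
    refine forall₂_congr fun l _ => ?_
    rw [← QuotientGroup.eq_one_iff, ← QuotientGroup.mk'_apply, ← hπ, map_mul, map_mul, map_mul,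
      map_inv, map_inv, mul_inv_eq_one, mul_inv_eq_iff_eq_mul]
  have hEC : d.E ≤ C := fun e he => (hmem e).2 fun l _ =>
    mul_mem (d.E_normal.conj_mem e he l) (inv_mem he)
  set R := C ⊓ Subgroup.normalizer (d.V : Set P) with hR
  have hnorm : L ⊔ (d.T : Subgroup P) ≤ Subgroup.normalizer (R : Set P) := by
    refine sup_le (fun l hl => ?_) fun t ht => ?_
    all_goals refine CfsgLib.Fusion.conjBy_eq_iff.1 (CfsgLib.Fusion.conjBy_eq_of_le
      (CfsgLib.Fusion.conjBy_le_iff.2 fun p hp => ?_))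
    · have h1 := (hmem p).1 hp.1 l hl
      rw [show l * p * l⁻¹ = (l * p * l⁻¹ * p⁻¹) * p by group]
      exact ⟨mul_mem (hEC h1) hp.1, mul_mem (d.E_le h1) hp.2⟩
    · exact mem_inf.2 ⟨hCn.conj_mem p hp.1 t, mul_mem (mul_mem (d.norm ht) hp.2) (inv_mem (d.norm ht))⟩
  haveI : R.Normal := normalizer_eq_top_iff.1 (top_le_iff.1 ((d.sup_T_eq_top hL).ge.trans hnorm))
  have hRE : R ≤ d.E := normal_le_normalCore.2 inf_le_right
  have hxC : x ∈ C := (hmem x).2 hcon
  obtain ⟨g, hg⟩ := exists_conj_mem d.T hxx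
  have h := hRE ⟨hCn.conj_mem x hxC g, d.norm hg⟩
  have h2 := d.E_normal.conj_mem _ h g⁻¹
  rw [inv_inv, show g⁻¹ * (g * x * g⁻¹) * g = x by group] at h2
  exact hxE h2

theorem J_le_E {Y : Type u} [CommGroup Y] (φ : P →* MulAut Y)
    (hker : φ.ker ≤ Subgroup.normalizer (d.V : Set P)) : J φ ⊥ ⊤ ≤ d.E := by
  haveI := K_normal φ ⊥ ⊤
  haveI := J_normal φ ⊥ ⊤
  refine normal_le_normalCore.2 ((le_sup_sylow d.T (K φ ⊥ ⊤) _ fun x hx => exists_pow_mem_K hx).trans
    (sup_le ?_ d.norm))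
  rwa [K_bot_top]

end Pair

end CfsgLib.FourFree
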