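import Cfsg.Agent.Lib.PGroup.FourFree.Reduced
import Cfsg.Agent.Lib.LocalStructure.Basic

/-!
# No elementary subgroup attains both quadratic bounds at the same time
-/

set_option autoImplicit false
set_option linter.style.haveILetI false
set_option linter.unusedSectionVars false

open Subgroup

namespace CfsgLib.FourFree

universe u v

variable {P : Type u} [Group P] {Y : Type v} [CommGroup Y] [Finite Y]

/-- The operators fixing every element of a set. -/
def fixer (φ : P →* MulAut Y) (Z : Set Y) : Subgroup P where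
  carrier := {p | ∀ z ∈ Z, φ p z = z}
  one_mem' := fun z _ => by rw [map_one, MulAut.one_apply]
  mul_mem' := fun ha hb z hz => by rw [apply_mul, hb z hz, ha z hz]
  inv_mem' := fun {a} ha z hz => by
    nth_rw 1 [← ha z hz]
    rw [← apply_mul, inv_mul_cancel, map_one, MulAut.one_apply]

theorem mem_fixer {φ : P →* MulAut Y} {Z : Set Y} {p : P} : p ∈ fixer φ Z ↔ ∀ z ∈ Z, φ p z = z :=
  Iff.rfl

/-- A power of an element of odd order in a subgroup brings the element into it. -/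
theorem mem_of_pow_two_mem {G : Type*} [Group G] [Finite G] {N : Subgroup G} {g : G} (hg : Odd (orderOf g))
    {k : ℕ} (h : g ^ 2 ^ k ∈ N) : g ∈ N := by
  haveI := Fact.mk Nat.prime_two
  exact CfsgLib.LS.mem_of_coprime_of_pow_mem (p := 2) (Nat.coprime_two_right.2 hg) h

/-- Every element has an odd-order power by a power of two. -/
theorem exists_odd_pow {G : Type*} [Group G] [Finite G] (g : G) :
    ∃ a : ℕ, Odd (orderOf (g ^ 2 ^ a)) := by
  obtain ⟨a, m, hm, ho⟩ := Nat.exists_eq_pow_mul_and_not_dvd (orderOf_pos g).ne' 2 (by norm_num)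
  refine ⟨a, ?_⟩
  rw [orderOf_pow_of_dvd (by positivity) (Dvd.intro m ho.symm), ho,
    Nat.mul_div_cancel_left _ (by positivity)]
  exact Nat.not_even_iff_odd.1 fun h => hm h.two_dvd

theorem mul_inv_conj {G : Type*} [Group G] {x : G} (hx : x * x = 1) (s : G) :
    x * (s⁻¹ * (x * s * x)) * x⁻¹ * (s⁻¹ * (x * s * x)) = 1 := by
  have hxi : x⁻¹ = x := inv_eq_of_mul_eq_one_right hx
  rw [hxi]
  calc x * (s⁻¹ * (x * s * x)) * x * (s⁻¹ * (x * s * x))
      = x * s⁻¹ * x * s * (x * x) * s⁻¹ * x * s * x := by group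
    _ = x * s⁻¹ * x * s * s⁻¹ * x * s * x := by rw [hx, mul_one]
    _ = x * s⁻¹ * (x * x) * s * x := by group
    _ = 1 := by rw [hx, mul_one, inv_mul_cancel_right, hx]

variable [Finite P] [Group.IsSolvable P]

/-- Some commutator of an element with the Fitting subgroup moves a point fixed by `X`. -/
theorem exists_moving {H : Type*} [Group H] [Finite H] [Group.IsSolvable H] {W : Type v}
    [CommGroup W] [Finite W] {φ : H →* MulAut W} (hinj : Function.Injective φ)
    (hW : ∀ w : W, w * w = 1) (hO : Cfsg.pCore 2 H = ⊥) (X : Subgroup H)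
    (hX : Cfsg.IsElementaryAbelian 2 X) {x : H} (hx : x ∈ X) (hx1 : x ≠ 1) :
    ∃ s ∈ Cfsg.fittingSubgroup H, ∃ w ∈ fx φ X, φ (s⁻¹ * (x * s * x)) w ≠ w := by
  haveI := Fact.mk Nat.prime_two
  by_contra hcon
  push Not at hcon
  set F := Cfsg.fittingSubgroup H with hF
  haveI : F.Normal := CfsgLib.Coprime.fitting_normal
  have hFodd : ¬ 2 ∣ Nat.card F := CfsgLib.PGroup.not_dvd_card_fitting hO
  have hxx : x * x = 1 := by rw [← pow_two]; exact hX.2 x hx
  have hxi : x⁻¹ = x := inv_eq_of_mul_eq_one_right hxx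
  have hXp : IsPGroup 2 X := fun a => ⟨1, Subtype.ext (by rw [pow_one]; exact hX.2 a a.2)⟩
  have hcomm : ∀ a ∈ X, ∀ b ∈ X, a * b = b * a := fun a ha b hb =>
    congrArg Subtype.val (hX.1.is_comm.comm (⟨a, ha⟩ : X) ⟨b, hb⟩)
  set K₀ := Subgroup.closure {r | ∃ s ∈ F, s⁻¹ * (x * s * x) = r} with hK₀
  have hK₀F : K₀ ≤ F := (closure_le _).2 (by
    rintro _ ⟨s, hs, rfl⟩
    have h := Subgroup.Normal.conj_mem (H := F) inferInstance s hs x
    rw [hxi] at h
    exact mul_mem (inv_mem hs) h)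
  have hfixK : ∀ k ∈ K₀, ∀ w ∈ fx φ X, φ k w = w := fun k hk =>
    (((closure_le _).2 (by
      rintro _ ⟨s, hs, rfl⟩
      exact fun w hw => hcon s hs w hw)) : K₀ ≤ fixer φ (fx φ X : Set W)) hk
  have hK₀X : ∀ a ∈ X, ∀ k ∈ K₀, a * k * a⁻¹ ∈ K₀ := by
    intro a ha
    have h : K₀ ≤ K₀.comap (MulAut.conj a).toMonoidHom := (closure_le _).2 (by
      rintro _ ⟨s, hs, rfl⟩
      refine subset_closure ⟨a * s * a⁻¹, Subgroup.Normal.conj_mem (H := F) inferInstance s hs a, ?_⟩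
      show (a * s * a⁻¹)⁻¹ * (x * (a * s * a⁻¹) * x) = a * (s⁻¹ * (x * s * x)) * a⁻¹
      have h1 : a⁻¹ * x = x * a⁻¹ :=
        (show Commute a x from hcomm a ha x hx).inv_left.eq
      calc (a * s * a⁻¹)⁻¹ * (x * (a * s * a⁻¹) * x)
          = a * s⁻¹ * (a⁻¹ * x) * a * s * (a⁻¹ * x) := by group
        _ = a * (s⁻¹ * (x * s * x)) * a⁻¹ := by rw [h1]; group)
    intro k hk
    exact h hk
  obtain ⟨k₀, hk₀, hk₀1⟩ : ∃ k ∈ K₀, k ≠ 1 := by
    by_contra h
    push Not at h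
    have hxC : x ∈ centralizer (F : Set H) := mem_centralizer_iff.2 fun s hs => by
      have h1 := h _ (subset_closure ⟨s, hs, rfl⟩)
      have h2 : x * s * x = s := (inv_mul_eq_one.1 h1).symm
      calc s * x = x * s * x * x := by rw [h2]
        _ = x * s := by rw [mul_assoc, hxx, mul_one]
    have hxF : x ∈ F := CfsgLib.Coprime.centralizer_fitting_le hxC
    refine hFodd ?_
    rw [← orderOf_eq_prime (p := 2) (hX.2 x hx) hx1]
    exact orderOf_dvd_natCard F hxF
  -- the subgroup of displacements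
  set D : Subgroup W := ⨆ k : K₀, (delt φ (k : H)).range with hD
  have hDmem : ∀ (k : H), k ∈ K₀ → ∀ w, delt φ k w ∈ D := fun k hk w =>
    mem_iSup_of_mem (⟨k, hk⟩ : K₀) ⟨w, rfl⟩
  have hDinv : ∀ a : X, ∀ d ∈ D, φ (a : H) d ∈ D := by
    intro a d hd
    refine ((iSup_le fun k => ?_) : D ≤ D.comap (φ (a : H) : W ≃* W).toMonoidHom) hd
    rintro _ ⟨w, rfl⟩
    show φ (a : H) (delt φ (k : H) w) ∈ D
    have h : φ (a : H) (delt φ (k : H) w) =
        delt φ ((a : H) * k * (a : H)⁻¹) (φ (a : H) w) := by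
      rw [delt_apply, delt_apply, map_div, ← apply_mul, ← apply_mul, inv_mul_cancel_right]
    rw [h]
    exact hDmem _ (hK₀X a a.2 k k.2) _
  let inst : MulAction X D :=
    { smul := fun a d => ⟨φ (a : H) d, hDinv a d d.2⟩
      one_smul := fun d => Subtype.ext (by
        show φ ((1 : X) : H) (d : W) = d
        rw [OneMemClass.coe_one, map_one, MulAut.one_apply])
      mul_smul := fun a b d => Subtype.ext (by
        show φ ((a * b : X) : H) (d : W) = φ (a : H) (φ (b : H) (d : W))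
        rw [Subgroup.coe_mul, apply_mul]) }
  obtain ⟨w₀, hw₀⟩ : ∃ w, φ k₀ w ≠ w := by
    by_contra h
    push Not at h
    exact hk₀1 (hinj (by rw [map_one]; exact MulEquiv.ext h))
  have hdvd : 2 ∣ Nat.card D := by
    obtain ⟨j, hj⟩ := (isPGroup_of_sq hW D).exists_card_eq
    rcases j with - | j
    · exfalso
      have h := hDmem k₀ hk₀ w₀
      rw [Subgroup.card_eq_one.1 (hj.trans (pow_zero 2))] at h
      exact hw₀ (div_eq_one.1 (mem_bot.1 h))
    · exact hj ▸ dvd_pow_self 2 (Nat.succ_ne_zero j)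
  have h1 : (1 : D) ∈ MulAction.fixedPoints X D := fun a => Subtype.ext (by
    show φ (a : H) ((1 : D) : W) = ((1 : D) : W)
    rw [OneMemClass.coe_one, map_one])
  obtain ⟨dd, hfix0, hd1⟩ := hXp.exists_fixed_point_of_prime_dvd_card_of_fixed_point D hdvd h1
  have hdW : (dd : W) ∈ fx φ X := fun a ha => congrArg Subtype.val (hfix0 ⟨a, ha⟩)
  letI := Fintype.ofFinite K₀
  let Nm : W →* W := MonoidHom.mk' (fun w => ∏ k : K₀, φ (k : H) w) fun a b => by
    simp only [map_mul, Finset.prod_mul_distrib]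
  have hNm : D ≤ Nm.ker := iSup_le fun k => by
    rintro _ ⟨w, rfl⟩
    show Nm (delt φ (k : H) w) = 1
    rw [delt_apply, map_div, div_eq_one]
    show ∏ j : K₀, φ (j : H) (φ (k : H) w) = ∏ j : K₀, φ (j : H) w
    exact Fintype.prod_equiv (Equiv.mulRight k) _ _ fun j => (apply_mul φ _ _ _).symm
  have hN : Nm (dd : W) = (dd : W) ^ Nat.card K₀ := by
    show ∏ j : K₀, φ (j : H) (dd : W) = _
    rw [Finset.prod_congr rfl fun (j : K₀) _ => hfixK j j.2 _ hdW, Finset.prod_const, Finset.card_univ,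
      Nat.card_eq_fintype_card]
  have hodd : Odd (Nat.card K₀) := Nat.not_even_iff_odd.1 fun h =>
    hFodd (h.two_dvd.trans (card_dvd_of_le hK₀F))
  refine hd1 (Subtype.ext ?_)
  show (1 : W) = dd
  have h2 : (dd : W) ^ Nat.card K₀ = 1 := hN.symm.trans (hNm dd.2)
  obtain ⟨j, hj⟩ := hodd
  rw [hj, pow_succ, pow_mul, pow_two, hW, one_pow, one_mul] at h2
  exact h2.symm

/-- `x` inverting `r` maps a displacement `δ_r(u)` of a fixed vector to `r⁻¹` of it. -/
theorem delt_fixed_eq_one {φ : P →* MulAut Y} (hY : ∀ y : Y, y * y = 1) {x r : P} {k : ℕ}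
    (hk : Odd k) (hrk : r ^ k = 1) (hinv : x * r * x⁻¹ * r = 1) {u : Y} (hu : φ x u = u)
    (h : φ x (delt φ r u) = delt φ r u) : delt φ r u = 1 := by
  refine delt_eq_one φ hY hk (by rw [hrk, map_one, MulAut.one_apply]) ?_
  have h1 : x * r = r⁻¹ * x := by
    calc x * r = (x * r * x⁻¹ * r) * (r⁻¹ * x) := by group
      _ = r⁻¹ * x := by rw [hinv, one_mul]
  have h2 : φ x (delt φ r u) = φ r⁻¹ u / u := by
    rw [delt_apply, map_div, ← apply_mul, h1, apply_mul, hu]
  have h3 : φ r (φ x (delt φ r u)) = (delt φ r u)⁻¹ := by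
    rw [h2, map_div, ← apply_mul, mul_inv_cancel, map_one, MulAut.one_apply, delt_apply, inv_div]
  rwa [h, inv_eq hY] at h3

/-- The configuration with equality in both bounds does not exist. -/
theorem strict_false {φ : P →* MulAut Y} (hfree : ¬ Cfsg.Involves (Equiv.Perm (Fin 4)) P)
    (hF : Free φ) (hY : ∀ y : Y, y * y = 1) (Q E : Subgroup P) [hQn : Q.Normal]
    (hQ : IsPGroup 2 Q) (hEQ : ∀ x ∈ E, x * x = 1 → x ∈ Q) (hJE : J φ ⊥ ⊤ ≤ E)
    (hstab : ∀ L : Subgroup P, L.Normal → ¬ L ≤ E → ∀ x : P, x * x = 1 → x ∉ E →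
      ∃ l ∈ L, l * x * l⁻¹ * x⁻¹ ∉ E)
    (htele : ∀ H ≤ Q, (∀ h ∈ H, φ (h * h) = 1) → φ.ker.relIndex H ^ 2 ≤ (fx φ H).index)
    (X : Subgroup P) (hX : Cfsg.IsElementaryAbelian 2 X) (n : ℕ) (hn : 1 < n)
    (h0 : φ.ker.relIndex (X ⊓ Q : Subgroup P) = n) (h1 : Q.relIndex X = n)
    (h2 : (fx φ ((X ⊓ Q : Subgroup P) : Set P)).index = n ^ 2)
    (h3 : (fx φ (X : Set P)).index = n ^ 2) : False := by
  haveI := Fact.mk Nat.prime_two
  have hne : ∀ (A : Subgroup Y) (B : Subgroup Y), A.relIndex B ≠ 0 := fun A B =>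
    (A.subgroupOf B).index_ne_zero_of_finite
  have hneP : ∀ (A : Subgroup P) (B : Subgroup P), A.relIndex B ≠ 0 := fun A B =>
    (A.subgroupOf B).index_ne_zero_of_finite
  have hxx : ∀ x ∈ X, x * x = 1 := fun x hx => by rw [← pow_two]; exact hX.2 x hx
  have hcomm : ∀ a ∈ X, ∀ b ∈ X, a * b = b * a := fun a ha b hb =>
    congrArg Subtype.val (hX.1.is_comm.comm (⟨a, ha⟩ : X) ⟨b, hb⟩)
  have hXs : ∀ x ∈ X, ∀ y, φ (x * x) y = y := fun x hx y => by
    rw [hxx x hx, map_one, MulAut.one_apply]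
  have hQJ : ∀ A B : Subgroup Y, Q ≤ J φ A B := fun A B => le_J Q fun q hq => by
    obtain ⟨k, hk⟩ := hQ ⟨q, hq⟩
    exact ⟨k, by rw [show q ^ 2 ^ k = 1 from congrArg Subtype.val hk]; exact one_mem _⟩
  -- a witness
  obtain ⟨hb, hwit⟩ := loss_le hF hY _ ⊥ ⊤ le_rfl (inv_bot φ) (inv_top φ) bot_le X hXs
  rw [fxs_bot_top, relIndex_top_right, h3] at hb hwit
  have hJn : (J φ ⊥ ⊤).relIndex X = n := by
    refine le_antisymm ((Nat.pow_le_pow_iff_left two_ne_zero).1 hb) ?_
    rw [← h1, ← inf_relIndex_right (J φ ⊥ ⊤) X]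
    exact relIndex_le_of_le_left (fun z hz => hEQ z (hJE hz.1) (hxx z hz.2))
      (by rw [inf_relIndex_right]; exact hneP _ _)
  obtain ⟨A, B, x, hA, hB, -, hAB, -, hx, hxA, hxB, hxJ, hJK, hx4⟩ := hwit (by rw [hJn])
    (fun h => by rw [relIndex_eq_one.2 h] at hJn; omega)
  set L := K φ A B with hL
  have hxE : x ∉ E := fun h => hxJ (hQJ ⊥ ⊤ (hEQ x h (hxx x hx)))
  have hLE : L ≤ E := by
    by_contra hcon
    obtain ⟨l, hl, hlE⟩ := hstab L (K_normal φ A B) hcon x (hxx x hx) hxE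
    refine hlE (hJE ?_)
    haveI := K_normal φ A B
    haveI := J_normal φ ⊥ A
    haveI := J_normal φ B ⊤
    have e1 : ∀ N : Subgroup P, N.Normal → x ∈ N → l * x * l⁻¹ * x⁻¹ ∈ N := fun N hN hxN =>
      mul_mem (hN.conj_mem x hxN l) (inv_mem hxN)
    have e2 : l * x * l⁻¹ * x⁻¹ ∈ J φ A B := K_le_J φ A B (by
      rw [show l * x * l⁻¹ * x⁻¹ = l * (x * l⁻¹ * x⁻¹) by group]
      exact mul_mem hl (Subgroup.Normal.conj_mem (H := L) inferInstance _ (inv_mem hl) x))
    exact J_inter hY (inv_bot φ) hB (inv_top φ) (mem_inf.2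
      ⟨J_inter hY (inv_bot φ) hA hB (mem_inf.2 ⟨e1 _ inferInstance hxA, e2⟩),
        e1 _ inferInstance hxB⟩)
  have hQL : Q ≤ L := (hQJ A B).trans hJK
  have hLn : L.relIndex X = n := by
    have e : L ⊓ X = Q ⊓ X :=
      le_antisymm (fun z hz => ⟨hEQ z (hLE hz.1) (hxx z hz.2), hz.2⟩) (inf_le_inf_right X hQL)
    rw [← h1, ← inf_relIndex_right L X, e, inf_relIndex_right]
  have hchief := (chief_loss hF hY hA hB hAB hJK X hXs).1
  rw [hLn] at hchief
  set F := fx φ (X : Set P) with hFd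
  set S := fxs φ A B (X : Set P) with hSd
  have hFS : F ⊓ B ≤ S := fun b hb => ⟨hb.2, fun z hz => by rw [hb.1 z hz, div_self']; exact one_mem A⟩
  have hFB : S.relIndex B ≤ F.relIndex B := by
    rw [← inf_relIndex_right F B]
    exact relIndex_le_of_le_left hFS (hne _ _)
  have hprod : F.relIndex B * (F ⊔ B).index ≤ n ^ 2 := by
    rw [← h3, ← relIndex_mul_index (le_sup_left : F ≤ F ⊔ B)]
    exact Nat.mul_le_mul_right _ (relIndex_le_of_le_right le_sup_right (hne _ _))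
  have hnn : 0 < n ^ 2 := by positivity
  have htop : F ⊔ B = ⊤ := by
    rw [← index_eq_one]
    have h' : n ^ 2 * (F ⊔ B).index ≤ n ^ 2 * 1 := by
      rw [mul_one]
      exact (Nat.mul_le_mul_right _ (hchief.trans hFB)).trans hprod
    have := Nat.le_of_mul_le_mul_left h' hnn
    have := (F ⊔ B).index_ne_zero_of_finite
    omega
  have hFBn : F.relIndex B = n ^ 2 := by
    rw [htop, index_top, mul_one] at hprod
    omega
  have hSF : S ≤ F := by
    have e := relIndex_mul_relIndex (F ⊓ B) S B hFS (fxs_le φ A B _)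
    rw [inf_relIndex_right, hFBn] at e
    have e1 : (F ⊓ B).relIndex S = 1 := by
      have := Nat.pos_of_ne_zero (hne (F ⊓ B) S)
      nlinarith
    exact (relIndex_eq_one.1 e1).trans inf_le_left
  have hAfix : ∀ z ∈ X, ∀ a ∈ A, φ z a = a := fun z hz a ha =>
    hSF ⟨hAB ha, fun p _ => div_mem (hA p a ha) ha⟩ z hz
  -- an element of odd order inverted by `x` moving a fixed point on the section
  set f := (secHom φ hA hB).rangeRestrict with hf
  have hfs : Function.Surjective f := MonoidHom.rangeRestrict_surjective _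
  haveI : Group.IsSolvable (secHom φ hA hB).range := Group.isSolvable_of_surjective hfs
  haveI : Finite (secHom φ hA hB).range := Finite.of_surjective f hfs
  have hker : f.ker = L := by rw [hf, MonoidHom.ker_rangeRestrict, secHom_ker]
  have hfX : Cfsg.IsElementaryAbelian 2 (X.map f) := by
    refine ⟨⟨⟨fun a b => Subtype.ext ?_⟩⟩, ?_⟩
    · obtain ⟨a', ha', ea⟩ := a.2
      obtain ⟨b', hb', eb⟩ := b.2
      show (a : (secHom φ hA hB).range) * b = b * a
      rw [← ea, ← eb, ← map_mul, hcomm a' ha' b' hb', map_mul]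
    · rintro _ ⟨z, hz, rfl⟩
      rw [← map_pow, hX.2 z hz, map_one]
  have hfx1 : f x ≠ 1 := fun h => hxE (hLE (hker ▸ (MonoidHom.mem_ker.2 h)))
  obtain ⟨s', hs', q, hq, hmove⟩ := exists_moving (φ := secAct φ hA hB)
    (secHom φ hA hB).range.subtype_injective (sq_quotient hY A B) (secAct_pCore hA hB hJK) _ hfX
    (mem_map_of_mem f hx) hfx1
  obtain ⟨s, rfl⟩ := hfs s'
  obtain ⟨b, rfl⟩ := QuotientGroup.mk_surjective q
  have hbF : (b : Y) ∈ F := hSF ⟨b.2, fun z hz =>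
    (secHom_mk_eq_iff φ hA hB z b).1 (hq _ (mem_map_of_mem f hz))⟩
  set r₀ := s⁻¹ * (x * s * x) with hr₀
  rw [← map_inv, ← map_mul, ← map_mul, ← map_mul, ← hr₀] at hmove
  obtain ⟨a₀, hodd⟩ := exists_odd_pow r₀
  set r := r₀ ^ 2 ^ a₀ with hr
  set k := orderOf r with hkdef
  have hrk : r ^ k = 1 := pow_orderOf_eq_one r
  have hxi : x⁻¹ = x := inv_eq_of_mul_eq_one_right (hxx x hx)
  have hinv : x * r * x⁻¹ * r = 1 := by
    have e : x * r₀ * x⁻¹ = r₀⁻¹ := eq_inv_of_mul_eq_one_left (mul_inv_conj (hxx x hx) s)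
    rw [hr, ← conj_pow, e, inv_pow, inv_mul_cancel]
  have hbmove : φ r (b : Y) / b ∉ A := by
    intro h
    have hfr : secAct φ hA hB (f r) (QuotientGroup.mk b) = QuotientGroup.mk b :=
      (secHom_mk_eq_iff φ hA hB r b).2 h
    let St := fixer (secAct φ hA hB) {QuotientGroup.mk b}
    have hfrS : (f r₀) ^ 2 ^ a₀ ∈ St := by
      rw [← map_pow, ← hr]
      exact fun z hz => by rw [Set.mem_singleton_iff.1 hz]; exact hfr
    have hoF : Odd (orderOf (f r₀)) := by
      haveI : (Cfsg.fittingSubgroup (secHom φ hA hB).range).Normal :=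
        CfsgLib.Coprime.fitting_normal
      refine Nat.not_even_iff_odd.1 fun he => CfsgLib.PGroup.not_dvd_card_fitting
        (secAct_pCore hA hB hJK) (he.two_dvd.trans (orderOf_dvd_natCard _ ?_))
      rw [hr₀, map_mul, map_inv, map_mul, map_mul]
      refine mul_mem (inv_mem hs') ?_
      have e := Subgroup.Normal.conj_mem
        (H := Cfsg.fittingSubgroup (secHom φ hA hB).range) inferInstance _ hs' (f x)
      rwa [← map_inv f x, hxi] at e
    exact hmove (mem_of_pow_two_mem hoF hfrS _ rfl)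
  have hrJ : ∀ C D : Subgroup Y, x ∈ J φ C D → r ∈ K φ C D := by
    intro C D hxCD
    haveI := J_normal φ C D
    have e : r₀ ∈ J φ C D := by
      rw [hr₀, show s⁻¹ * (x * s * x) = s⁻¹ * x * s⁻¹⁻¹ * x by group]
      exact mul_mem (Subgroup.Normal.conj_mem (H := J φ C D) inferInstance x hxCD s⁻¹) hxCD
    obtain ⟨j, hj⟩ := exists_pow_mem_K (pow_mem e (2 ^ a₀))
    exact mem_of_pow_two_mem hodd hj
  have hrA : ∀ a ∈ A, φ r a = a := fun a ha =>
    div_eq_one.1 (mem_bot.1 ((mem_K (inv_bot φ) hA).1 (hrJ _ _ hxA) a ha))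
  have hrB : ∀ u, delt φ r u ∈ B := fun u =>
    (mem_K hB (inv_top φ)).1 (hrJ _ _ hxB) u (mem_top u)
  have hrfix : ∀ u, φ (r ^ k) u = u := fun u => by rw [hrk, map_one, MulAut.one_apply]
  set D := (delt φ r).range with hD
  have hDx : ∀ d ∈ D, φ x d ∈ D := by
    rintro _ ⟨u, rfl⟩
    refine ⟨φ r⁻¹ (φ x u), ?_⟩
    have e : x * r = r⁻¹ * x := by
      calc x * r = (x * r * x⁻¹ * r) * (r⁻¹ * x) := by group
        _ = r⁻¹ * x := by rw [hinv, one_mul]
    rw [delt_apply, delt_apply, map_div, ← apply_mul φ x r, e, apply_mul φ r⁻¹ x, ← apply_mul φ r,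
      mul_inv_cancel, map_one, MulAut.one_apply, ← inv_div, inv_eq hY]
  have hD4 : (fx φ {x}).relIndex D ≤ 4 := by
    calc (fx φ {x}).relIndex D ≤ (fxs φ A B {x}).relIndex D := by
          rw [← inf_relIndex_right (fxs φ A B {x}) D]
          refine relIndex_le_of_le_left ?_ (by rw [inf_relIndex_right]; exact hne _ _)
          rintro d ⟨hdS, hdD⟩ z hz
          rw [Set.mem_singleton_iff.1 hz]
          obtain ⟨u, hu⟩ := div_mem (hDx d hdD) hdD
          have hA' : φ x d / d ∈ A := hdS.2 x rfl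
          rw [← hu] at hA'
          have e := delt_eq_one φ hY hodd (hrfix u) (hrA _ hA')
          rw [hu] at e
          exact div_eq_one.1 e
      _ ≤ (fxs φ A B {x}).relIndex B :=
          relIndex_le_of_le_right (by rintro _ ⟨u, rfl⟩; exact hrB u) (hne _ _)
      _ = 4 := hx4
  set Z := F ⊓ fx φ {r} with hZ
  have hkerr : (delt φ r).ker = fx φ {r} := by
    ext u
    rw [MonoidHom.mem_ker, delt_apply, div_eq_one, mem_fx]
    exact ⟨fun h z hz => by rw [Set.mem_singleton_iff.1 hz]; exact h, fun h => h r rfl⟩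
  have hZF : Z.relIndex F ≤ 4 := by
    rw [hZ, inf_relIndex_left, ← hkerr, relIndex_ker]
    have hbot : fx φ {x} ⊓ F.map (delt φ r) = ⊥ := by
      rw [eq_bot_iff]
      rintro _ ⟨he, u, hu, rfl⟩
      exact mem_bot.2 (delt_fixed_eq_one hY hodd hrk hinv (hu x hx) (he x rfl))
    rw [← relIndex_bot_left (F.map (delt φ r)), ← hbot, inf_relIndex_right]
    exact (relIndex_le_of_le_right (map_le_range _ _) (hne _ _)).trans hD4
  have hZi : Z.index ≤ 4 * n ^ 2 := by
    rw [← relIndex_mul_index (inf_le_left : Z ≤ F), h3]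
    exact Nat.mul_le_mul_right _ hZF
  -- the normalised subgroup of operators stabilising `1 ≤ A ≤ Y`
  set Λ := K φ ⊥ A ⊓ K φ A ⊤ with hΛ
  haveI hΛn : Λ.Normal := by
    haveI := K_normal φ ⊥ A
    haveI := K_normal φ A ⊤
    infer_instance
  have hΛsq : ∀ h ∈ Λ, φ (h * h) = 1 := fun h hh => MulEquiv.ext fun y => by
    have e1 := (mem_K hA (inv_top φ)).1 hh.2 y (mem_top y)
    have e2 : φ h (φ h y / y) = φ h y / y :=
      div_eq_one.1 (mem_bot.1 ((mem_K (inv_bot φ) hA).1 hh.1 _ e1))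
    rw [apply_mul, MulAut.one_apply]
    calc φ h (φ h y) = φ h (φ h y / y * y) := by rw [div_mul_cancel]
      _ = φ h y / y * (φ h y / y * y) := by rw [map_mul, e2, div_mul_cancel]
      _ = y := by rw [← mul_assoc, hY, one_mul]
  set H0 := Λ ⊓ Q ⊓ fixer φ (Z : Set Y) with hH0
  have hZx : ∀ z ∈ Z, φ x z = z := fun z hz => hz.1 x hx
  have hZr : ∀ z ∈ Z, φ r z = z := fun z hz => hz.2 r rfl
  have hH0conj : ∀ g, (∀ z ∈ Z, φ g z = z) → ∀ h ∈ H0, g * h * g⁻¹ ∈ H0 := by
    rintro g hg h ⟨⟨hhΛ, hhQ⟩, hhZ⟩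
    have hgZ : g ∈ fixer φ (Z : Set Y) := hg
    exact ⟨⟨hΛn.conj_mem h hhΛ g, hQn.conj_mem h hhQ g⟩, (fixer φ (Z : Set Y)).mul_mem ((fixer φ (Z : Set Y)).mul_mem hgZ hhZ) (inv_mem hgZ)⟩
  have ht : φ.ker.relIndex H0 ^ 2 ≤ 4 * n ^ 2 := by
    refine (htele H0 (inf_le_left.trans inf_le_right) fun h hh => hΛsq h hh.1.1).trans
      (le_trans ?_ hZi)
    exact Nat.le_of_dvd (Nat.pos_of_ne_zero Z.index_ne_zero_of_finite)
      (index_dvd_of_le fun z hz h hh => hh.2 z hz)
  have hX₀ : X ⊓ Q ≤ H0 := by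
    rintro z ⟨hz, hzQ⟩
    refine ⟨⟨⟨(mem_K (inv_bot φ) hA).2 fun a ha => ?_, (mem_K hA (inv_top φ)).2 fun u _ => ?_⟩, hzQ⟩,
      fun w hw => hw.1 z hz⟩
    · rw [hAfix z hz a ha, div_self']; exact one_mem _
    · obtain ⟨c, hc, d, hd, rfl⟩ := Subgroup.mem_sup.1 (htop.ge (mem_top u))
      rw [map_mul, hc z hz, mul_div_mul_left_eq_div]
      exact (mem_K hA hB).1 (hQL hzQ) d hd
  -- the action on the induced elementary abelian group
  set ρ := φ.rangeRestrict with hρdef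
  haveI : Finite φ.range := Finite.of_surjective ρ φ.rangeRestrict_surjective
  have hρ : ∀ {a b : P}, ρ a = ρ b ↔ φ a = φ b := fun {_ _} => Subtype.ext_iff
  set Λb := Λ.map ρ with hΛb
  haveI : Λb.Normal := hΛn.map ρ φ.rangeRestrict_surjective
  have hΛe : Cfsg.IsElementaryAbelian 2 Λb := by
    have e : ∀ c ∈ Λb, c * c = 1 := by
      rintro _ ⟨h, hh, rfl⟩
      rw [← map_mul]
      exact (hρ (b := 1)).2 ((hΛsq h hh).trans (map_one φ).symm) |>.trans (map_one ρ)
    refine ⟨⟨⟨fun a b => Subtype.ext ?_⟩⟩, fun a ha => by rw [pow_two]; exact e a ha⟩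
    show (a : φ.range) * b = b * a
    have hi := fun c (hc : c ∈ Λb) => inv_eq_of_mul_eq_one_right (e c hc)
    rw [← hi _ (mul_mem b.2 a.2), mul_inv_rev, hi _ a.2, hi _ b.2]
  letI := commGroupOf hΛe
  set ψ : P →* MulAut Λb := MulAut.conjNormal.comp ρ with hψ
  have hψapp : ∀ (p : P) (c : Λb), ((ψ p c : Λb) : φ.range) = ρ p * c * (ρ p)⁻¹ := fun p c =>
    MulAut.conjNormal_apply _ _
  have hψF : Free ψ := free_of_conj
    (fun h => hfree (CfsgLib.Fusion.involves_of_surjective ρ φ.rangeRestrict_surjective h))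
    ρ Λb.subtype Λb.subtype_injective (sq_of_elementary hΛe) hψapp
  set W₁ := (H0.map ρ).subgroupOf Λb with hW₁
  have hW₁inv : ∀ g, (∀ z ∈ Z, φ g z = z) → ∀ w ∈ W₁, ψ g w ∈ W₁ := by
    intro g hg w hw
    obtain ⟨h, hh, e⟩ := mem_subgroupOf.1 hw
    rw [hW₁, mem_subgroupOf, hψapp, ← e, ← map_inv, ← map_mul, ← map_mul]
    exact mem_map_of_mem ρ (hH0conj g hg h hh)
  have hmove' : ∃ w ∈ W₁, ψ r w ≠ w := by
    by_contra hc
    push Not at hc
    have e : ∀ z ∈ X ⊓ Q, φ (r⁻¹ * z * r) = φ z := by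
      intro z hz
      have hzΛ : ρ z ∈ Λb := mem_map_of_mem ρ (hX₀ hz).1.1
      have e1 := congrArg Subtype.val (hc ⟨ρ z, hzΛ⟩ (mem_subgroupOf.2 (mem_map_of_mem ρ (hX₀ hz))))
      rw [hψapp, ← map_inv, ← map_mul, ← map_mul] at e1
      have e2 : φ r * φ z = φ z * φ r := by
        have e3 := hρ.1 e1
        rw [map_mul, map_mul, map_inv, mul_inv_eq_iff_eq_mul] at e3
        exact e3
      rw [map_mul, map_mul, map_inv, mul_assoc, ← e2, inv_mul_cancel_left]
    have hF0 : fx φ ((X ⊓ Q : Subgroup P) : Set P) = F := by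
      have hle : F ≤ fx φ ((X ⊓ Q : Subgroup P) : Set P) := fx_antitone φ fun z hz => hz.1
      refine le_antisymm (relIndex_eq_one.1 ?_) hle
      have e := relIndex_mul_index hle
      rw [h2, h3] at e
      exact (Nat.mul_eq_right hnn.ne').1 e
    refine hbmove ?_
    have hrb : φ r (b : Y) ∈ F := by
      rw [← hF0]
      intro z hz
      have e1 : φ (r⁻¹ * z * r) (b : Y) = b := by rw [e z hz]; exact hbF z hz.1
      calc φ z (φ r (b : Y)) = φ r (φ (r⁻¹ * z * r) (b : Y)) := by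
            rw [← apply_mul, ← apply_mul, ← mul_assoc, mul_inv_cancel_left]
        _ = φ r (b : Y) := by rw [e1]
    have e1 : delt φ r (b : Y) = 1 :=
      delt_fixed_eq_one hY hodd hrk hinv (hbF x hx) ((div_mem hrb hbF : delt φ r (b : Y) ∈ F) x hx)
    rw [← delt_apply, e1]
    exact one_mem A
  have h4 := four_le hψF (sq_of_elementary hΛe) W₁ x r
    (fun w _ => by rw [hxx x hx, map_one, MulAut.one_apply])
    (fun w _ => by rw [hinv, map_one, MulAut.one_apply])
    ⟨k, hodd, fun w _ => by rw [hrk, map_one, MulAut.one_apply]⟩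
    (hW₁inv x hZx) (hW₁inv r hZr) hmove'
  have hle₁ : H0.map ρ ≤ Λb := map_mono (inf_le_left.trans inf_le_left)
  have hcard : Nat.card W₁ = φ.ker.relIndex H0 := by
    rw [hW₁, Nat.card_congr (subgroupOfEquivOfLe hle₁).toEquiv, ← relIndex_ker, hρdef,
      MonoidHom.ker_rangeRestrict]
  have hn₁ : n ≤ Nat.card (fx ψ {x} ⊓ W₁ : Subgroup Λb) := by
    have hle₂ : (X ⊓ Q).map ρ ≤ Λb := (map_mono hX₀).trans hle₁
    have e : n = Nat.card (((X ⊓ Q).map ρ).subgroupOf Λb) := by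
      rw [Nat.card_congr (subgroupOfEquivOfLe hle₂).toEquiv, ← relIndex_ker, hρdef,
        MonoidHom.ker_rangeRestrict, h0]
    rw [e]
    refine card_le_of_le fun w hw => ⟨?_, ?_⟩
    · intro z hz
      rw [Set.mem_singleton_iff.1 hz]
      obtain ⟨h, hh, eh⟩ := mem_subgroupOf.1 hw
      refine Subtype.ext ?_
      rw [hψapp, ← eh, ← map_inv, ← map_mul, ← map_mul, hcomm x hx h hh.1, mul_inv_cancel_right]
    · exact mem_subgroupOf.2 ((map_mono hX₀) (mem_subgroupOf.1 hw))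
  have hfin := relIndex_mul_relIndex ⊥ (fx ψ {x} ⊓ W₁) W₁ bot_le inf_le_right
  rw [relIndex_bot_left, relIndex_bot_left, inf_relIndex_right, hcard] at hfin
  have := Nat.mul_le_mul hn₁ h4
  rw [hfin] at this
  nlinarith

end CfsgLib.FourFree
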