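import Cfsg.Agent.Lib.PGroup.FourFree.Pair
import Cfsg.Agent.Lib.Coprime.PGroupFrattini
import Cfsg.Agent.Lib.Coprime.Action
import Cfsg.Agent.Lib.PGroup.ElementaryBasic
import Cfsg.Agent.Lib.PGroup.FourFree.Strict

/-!
# The module lies in `O₂(P)`
-/

set_option autoImplicit false
set_option linter.style.haveILetI false
set_option linter.unusedSectionVars false

open Subgroup

namespace CfsgLib.FourFree

open CfsgLib.Fusion (conjBy)

universe u v

/-- An element of odd order whose square fixes a vector fixes it. -/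
theorem fixed_of_sq_fixed {H : Type u} [Group H] {W : Type v} [CommGroup W] (φ : H →* MulAut W)
    {r : H} {k : ℕ} (hk : Odd k) (hrk : r ^ k = 1) {w : W} (h : φ r (φ r w) = w) : φ r w = w := by
  obtain ⟨j, rfl⟩ := hk
  have h4 : ∀ i : ℕ, φ (r ^ (2 * i)) w = w := by
    intro i
    induction i with
    | zero => simp
    | succ i ih => rw [show 2 * (i + 1) = 2 + 2 * i by ring, pow_add, apply_mul, ih, pow_two, apply_mul, h]
  have h5 : φ (r ^ (2 * j + 1)) w = w := by rw [hrk, map_one, MulAut.one_apply]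
  rwa [pow_succ', apply_mul, h4] at h5

variable {P : Type u} [Group P] [Finite P]

theorem frattiniQuot_elementary (N : Subgroup P) [((frattini N).map N.subtype).Normal]
    (hN : IsPGroup 2 N) :
    Cfsg.IsElementaryAbelian 2 (N.map (QuotientGroup.mk' ((frattini N).map N.subtype))) := by
  haveI := Fact.mk Nat.prime_two
  set π := QuotientGroup.mk' ((frattini N).map N.subtype) with hπ
  have hone : ∀ n : N, n ∈ frattini N → π (n : P) = 1 := fun n hn =>
    (QuotientGroup.eq_one_iff _).2 (mem_map_of_mem N.subtype hn)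
  refine ⟨⟨⟨fun a b => Subtype.ext ?_⟩⟩, ?_⟩
  · obtain ⟨a', ha, ea⟩ := a.2
    obtain ⟨b', hb, eb⟩ := b.2
    show (a : P ⧸ (frattini N).map N.subtype) * b = b * a
    rw [← ea, ← eb, ← mul_inv_eq_one, ← map_mul, ← map_mul, ← map_inv, ← map_mul]
    refine hone (⟨a', ha⟩ * ⟨b', hb⟩ * (⟨b', hb⟩ * ⟨a', ha⟩)⁻¹)
      (CfsgLib.Coprime.commutator_le_frattini hN ?_)
    have h := commutator_mem_commutator (mem_top (⟨a', ha⟩ : N)) (mem_top (⟨b', hb⟩ : N))
    rw [commutatorElement_def] at h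
    rw [_root_.commutator_def]
    convert h using 1
    group
  · rintro _ ⟨n, hn, rfl⟩
    rw [← map_pow]
    exact hone (⟨n, hn⟩ ^ 2) (CfsgLib.Coprime.pow_mem_frattini hN _)

theorem frattini_map_ne {N : Subgroup P} (hN : N ≠ ⊥) : (frattini N).map N.subtype < N := by
  refine lt_of_le_of_ne (map_subtype_le _) fun h => ?_
  haveI : Nontrivial N := (Subgroup.nontrivial_iff_ne_bot N).2 hN
  obtain ⟨M, hM, -⟩ := (eq_top_or_exists_le_coatom (⊥ : Subgroup N)).resolve_left bot_ne_top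
  have h2 : frattini N = ⊤ := by
    apply map_injective N.subtype_injective
    rw [h, ← MonoidHom.range_eq_map, range_subtype]
  exact hM.1 (top_le_iff.1 (h2.ge.trans (frattini_le_coatom hM)))

namespace Pair

variable (d : Pair P)

/-- An element inverted by `y ∈ V` that agrees with `r` modulo a normal 2-subgroup is conjugate
to `r` under `V ∩ O₂(P)`. -/
theorem exists_conjugator {y r : P} (hy : y ∈ d.V) (hinv : y * r * y⁻¹ * r = 1) {k : ℕ}
    (hk : Odd k) (hrk : r ^ k = 1) : ∀ (n : ℕ) (N : Subgroup P), Nat.card N ≤ n → N.Normal →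
      N ≤ Cfsg.pCore 2 P → ∀ z ∈ N, y * (r * z) * y⁻¹ = (r * z)⁻¹ → (r * z) ^ k = 1 →
        ∃ u ∈ d.V ⊓ Cfsg.pCore 2 P, r * z = u * r * u⁻¹ := by
  haveI := Fact.mk Nat.prime_two
  intro n
  induction n with
  | zero => intro N hn; exact absurd hn (not_le.2 Nat.card_pos)
  | succ n ih =>
    intro N hn hNn hNQ z hz hzy hzk
    haveI := hNn
    by_cases hNb : N = ⊥
    · subst hNb
      exact ⟨1, one_mem _, by rw [mem_bot.1 hz, mul_one, one_mul, inv_one, mul_one]⟩
    set Φ := (frattini N).map N.subtype with hΦ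
    haveI : Φ.Normal := CfsgLib.Coprime.map_subtype_normal_of_characteristic N (frattini N)
    have hNp : IsPGroup 2 N := (CfsgLib.Coprime.pCore_isPGroup (G := P) 2).to_le hNQ
    set π := QuotientGroup.mk' Φ with hπ
    set Nb := N.map π with hNb'
    have hNbe : Cfsg.IsElementaryAbelian 2 Nb := frattiniQuot_elementary N hNp
    letI := commGroupOf hNbe
    haveI : Nb.Normal := hNn.map π (QuotientGroup.mk'_surjective Φ)
    have hY := sq_of_elementary hNbe
    set φ : P →* MulAut Nb := MulAut.conjNormal.comp π with hφ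
    let cl : N →* Nb := (π.comp N.subtype).codRestrict Nb fun q => mem_map_of_mem π q.2
    have hconj : ∀ g q, q ∈ N → g * q * g⁻¹ ∈ N := fun g q hq => hNn.conj_mem q hq g
    have hφcl : ∀ (g : P) (q : N), φ g (cl q) = cl ⟨g * q * g⁻¹, hconj g q q.2⟩ := fun g q =>
      Subtype.ext ((MulAut.conjNormal_apply _ _).trans (by
        show π g * π q * (π g)⁻¹ = π (g * q * g⁻¹)
        rw [map_mul, map_mul, map_inv]))
    have hyy : y * y = 1 := by rw [← pow_two]; exact d.elem.2 y hy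
    have hyr : y * r * y⁻¹ = r⁻¹ := eq_inv_of_mul_eq_one_left hinv
    have hyri : y * r⁻¹ * y⁻¹ = r := by rw [← conj_inv, hyr, inv_inv]
    have hswap : ∀ w, φ y (φ r w) = φ r⁻¹ (φ y w) := fun w => by
      rw [← apply_mul, ← apply_mul, ← hyr, inv_mul_cancel_right]
    have hswap' : ∀ w, φ y (φ r⁻¹ w) = φ r (φ y w) := fun w => by
      rw [← apply_mul, ← apply_mul]
      nth_rw 2 [← hyri]
      rw [inv_mul_cancel_right]
    have hyy' : ∀ w, φ y (φ y w) = w := fun w => by rw [← apply_mul, hyy, map_one, MulAut.one_apply]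
    have hrk' : r⁻¹ ^ k = 1 := by rw [inv_pow, hrk, inv_one]
    have hrr : ∀ w, φ r⁻¹ (φ r w) = w := fun w => by
      rw [← apply_mul, inv_mul_cancel, map_one, MulAut.one_apply]
    have hrr' : ∀ w, φ r (φ r⁻¹ w) = w := fun w => by
      rw [← apply_mul, mul_inv_cancel, map_one, MulAut.one_apply]
    set D := (delt φ r⁻¹).range with hD
    have hDr : ∀ a ∈ D, φ r a ∈ D := by
      rintro _ ⟨w, rfl⟩
      exact ⟨φ r w, by rw [delt_apply, delt_apply, map_div, hrr, hrr']⟩
    have hDy : ∀ a ∈ D, φ y a ∈ D := by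
      rintro _ ⟨w, rfl⟩
      refine ⟨φ r (φ y w), ?_⟩
      rw [delt_apply, delt_apply, map_div, hswap', hrr, ← inv_div, inv_eq hY]
    have hfix : ∀ a ∈ D, φ r a = a → a = 1 := by
      rintro _ ⟨w, rfl⟩ h
      refine delt_eq_one φ hY hk (by rw [hrk', map_one, MulAut.one_apply]) ?_
      nth_rw 1 [← h]
      exact hrr _
    -- `z` is a displacement
    set zb := cl ⟨z, hz⟩ with hzb
    have hc : ∀ m : ℕ, ∃ h : (r ^ m)⁻¹ * (r * z) ^ m ∈ N,
        cl ⟨_, h⟩ / zb ^ m ∈ D := by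
      intro m
      induction m with
      | zero =>
        refine ⟨by rw [pow_zero, pow_zero, inv_one, one_mul]; exact one_mem _, ?_⟩
        rw [pow_zero zb, div_one, show (⟨_, _⟩ : N) = 1 from Subtype.ext (by simp), map_one]
        exact one_mem _
      | succ m ihm =>
        obtain ⟨h, hd⟩ := ihm
        have e : (r ^ (m + 1))⁻¹ * (r * z) ^ (m + 1) =
            r⁻¹ * ((r ^ m)⁻¹ * (r * z) ^ m) * r⁻¹⁻¹ * z := by
          rw [pow_succ, pow_succ, inv_inv, mul_inv_rev]
          group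
        refine ⟨e ▸ mul_mem (hconj _ _ h) hz, ?_⟩
        rw [show (⟨_, _⟩ : N) = ⟨_, hconj r⁻¹ _ h⟩ * ⟨z, hz⟩ from Subtype.ext e, map_mul,
          ← hφcl r⁻¹ ⟨_, h⟩, pow_succ, ← hzb, mul_div_mul_right_eq_div,
          ← div_mul_div_cancel _ (cl ⟨_, h⟩) _]
        exact mul_mem ⟨_, rfl⟩ hd
    have hzD : zb ∈ D := by
      obtain ⟨h, hd⟩ := hc k
      have e1 : (⟨_, h⟩ : N) = 1 := Subtype.ext (by simp [hrk, hzk])
      rw [e1, map_one, one_div, inv_mem_iff] at hd
      obtain ⟨j, hj⟩ := hk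
      rwa [hj, pow_succ, pow_mul, pow_two, hY, one_pow, one_mul] at hd
    obtain ⟨dd, hddD, hdd⟩ : ∃ a ∈ D, delt φ r⁻¹ a = zb := by
      let f : D → D := fun a => ⟨delt φ r⁻¹ a, ⟨a, rfl⟩⟩
      have hf : Function.Injective f := fun a b hab => by
        have e : delt φ r⁻¹ ((a : Nb) / b) = 1 := by
          have hab' : delt φ r⁻¹ (a : Nb) = delt φ r⁻¹ b := congrArg Subtype.val hab
          rw [map_div, hab', div_self']
        refine Subtype.ext (div_eq_one.1 (hfix _ (div_mem a.2 b.2) ?_))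
        rw [delt_apply, div_eq_one] at e
        nth_rw 1 [← e]
        exact hrr' _
      obtain ⟨a, ha⟩ := Finite.surjective_of_injective hf ⟨zb, hzD⟩
      exact ⟨a, a.2, congrArg Subtype.val ha⟩
    have hzy' : φ y zb = φ r zb := by
      rw [hzb, hφcl, hφcl]
      have e : y * z * y⁻¹ = r * z⁻¹ * r⁻¹ := by
        calc y * z * y⁻¹ = (y * r⁻¹ * y⁻¹) * (y * (r * z) * y⁻¹) := by group
          _ = r * z⁻¹ * r⁻¹ := by rw [hyri, hzy]; group
      rw [show (⟨y * z * y⁻¹, _⟩ : N) = (⟨r * z * r⁻¹, hconj r z hz⟩ : N)⁻¹ from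
        Subtype.ext (e.trans (by simp [mul_assoc])), map_inv, inv_eq hY]
    have hyd : φ y dd = dd := by
      refine div_eq_one.1 (hfix _ (div_mem (hDy _ hddD) hddD) ?_)
      have e1 : φ y zb = φ r (φ y dd) / φ y dd := by rw [← hdd, delt_apply, map_div, hswap']
      have e2 : φ r zb = φ r dd / dd := by
        rw [← hdd, delt_apply, map_div, hrr', ← inv_div, inv_eq hY]
      rw [map_div, div_eq_div_iff_div_eq_div, ← e1, ← e2, hzy']
    -- points of `D` fixed by `y` are commutators with `y`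
    let C : Subgroup Nb := D ⊓ fx φ {y}
    let τ : C → C := fun e => ⟨φ y (φ r e) / φ r e, mem_inf.2
      ⟨div_mem (hDy _ (hDr _ e.2.1)) (hDr _ e.2.1), fun a ha => by
        rw [Set.mem_singleton_iff.1 ha, map_div, hyy', ← inv_div, inv_eq hY]⟩⟩
    have hτ : Function.Injective τ := fun a b hab => by
      set e := (a : Nb) / b with he
      have heC : e ∈ C := div_mem a.2 b.2
      have e1 : φ y (φ r e) = φ r e := by
        rw [he, map_div, map_div, div_eq_div_iff_div_eq_div]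
        exact congrArg Subtype.val hab
      rw [hswap, heC.2 y rfl] at e1
      have e2 : φ r (φ r e) = e := by rw [← e1, hrr']
      exact Subtype.ext (div_eq_one.1 (hfix _ heC.1 (fixed_of_sq_fixed φ hk hrk e2)))
    obtain ⟨e, he⟩ := Finite.surjective_of_injective hτ
      ⟨dd, mem_inf.2 ⟨hddD, fun a ha => by rw [Set.mem_singleton_iff.1 ha]; exact hyd⟩⟩
    obtain ⟨q, hq, hqe⟩ := (φ r e).2
    set u := y * q * y⁻¹ * q⁻¹ with hu
    have huN : u ∈ N := mul_mem (hconj y q hq) (inv_mem hq)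
    have huV : u ∈ d.V := by
      rw [hu, show y * q * y⁻¹ * q⁻¹ = y * (q * y⁻¹ * q⁻¹) by group]
      exact mul_mem hy ((mem_normalizer_iff.1 (d.norm (d.pCore_le_T (hNQ hq))) _).1 (inv_mem hy))
    have hucl : cl ⟨u, huN⟩ = dd := by
      have hq' : cl ⟨q, hq⟩ = φ r e := Subtype.ext hqe
      have he' : φ y (φ r e) / φ r e = dd := congrArg Subtype.val he
      rw [← he', ← hq', hφcl, ← map_div]
      exact congrArg cl (Subtype.ext (by simp [hu, div_eq_mul_inv]))
    set z' := r⁻¹ * (u⁻¹ * (r * z) * u) with hz'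
    have hz'N : z' ∈ N := by
      rw [hz', show r⁻¹ * (u⁻¹ * (r * z) * u) = r⁻¹ * u⁻¹ * r⁻¹⁻¹ * (z * u) by group]
      exact mul_mem (hconj _ _ (inv_mem huN)) (mul_mem hz huN)
    have hz'Φ : z' ∈ Φ := by
      rw [← QuotientGroup.eq_one_iff (N := Φ), ← QuotientGroup.mk'_apply]
      suffices h : cl ⟨z', hz'N⟩ = 1 from congrArg Subtype.val h
      have h2 : cl ⟨r⁻¹ * u⁻¹ * r⁻¹⁻¹, hconj _ _ (inv_mem huN)⟩ = φ r⁻¹ (cl (⟨u, huN⟩⁻¹ : N)) :=
        (hφcl r⁻¹ (⟨u, huN⟩⁻¹ : N)).symm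
      rw [show (⟨z', hz'N⟩ : N) = ⟨r⁻¹ * u⁻¹ * r⁻¹⁻¹, hconj _ _ (inv_mem huN)⟩ *
        (⟨z, hz⟩ * ⟨u, huN⟩) from Subtype.ext (hz'.trans (by simp [mul_assoc])), map_mul, map_mul,
        ← hzb, ← hdd, hucl, h2, map_inv cl, hucl, map_inv (φ r⁻¹), delt_apply,
        div_mul_cancel, inv_mul_cancel]
    have hΦlt : Nat.card Φ ≤ n := by
      have h : Nat.card Φ < Nat.card N :=
        Set.Finite.card_lt_card (Set.toFinite _) (frattini_map_ne hNb)
      omega
    have e : r * z' = u⁻¹ * (r * z) * u := by rw [hz']; group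
    have huy : y * u * y⁻¹ = u := by
      have := congrArg Subtype.val (d.elem.1.is_comm.comm (⟨y, hy⟩ : d.V) ⟨u, huV⟩)
      rw [show y * u = u * y from this, mul_inv_cancel_right]
    obtain ⟨u', hu', hu'e⟩ := ih Φ hΦlt inferInstance ((map_subtype_le _).trans hNQ) z' hz'Φ
      (by
        rw [e]
        calc y * (u⁻¹ * (r * z) * u) * y⁻¹
            = (y * u * y⁻¹)⁻¹ * (y * (r * z) * y⁻¹) * (y * u * y⁻¹) := by group
          _ = (u⁻¹ * (r * z) * u)⁻¹ := by rw [huy, hzy]; group)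
      (by
        rw [e, show u⁻¹ * (r * z) * u = u⁻¹ * (r * z) * u⁻¹⁻¹ by group, conj_pow, hzk, mul_one,
          mul_inv_cancel])
    refine ⟨u * u', mul_mem (mem_inf.2 ⟨huV, hNQ huN⟩) hu', ?_⟩
    calc r * z = u * (r * z') * u⁻¹ := by rw [e]; group
      _ = u * u' * r * (u * u')⁻¹ := by rw [hu'e]; group

omit [Finite P] in
theorem relIndex_sup_of_normalizes [Finite P] {A D : Subgroup P}
    (h : A ≤ Subgroup.normalizer (D : Set P)) : D.relIndex (A ⊔ D) = D.relIndex A := by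
  have h1 := relIndex_mul_relIndex ⊥ D (A ⊔ D) bot_le le_sup_right
  have h2 := relIndex_mul_relIndex ⊥ (A ⊓ D) A bot_le inf_le_left
  rw [relIndex_bot_left, relIndex_bot_left] at h1 h2
  rw [inf_relIndex_left] at h2
  have h3 := CfsgLib.EABasic.card_sup_mul_card_inf_of_le_normalizer h
  rw [← h1, ← h2] at h3
  refine Nat.eq_of_mul_eq_mul_left (Nat.mul_pos (Nat.card_pos (α := D))
    (Nat.card_pos (α := (A ⊓ D : Subgroup P)))) ?_
  calc _ = Nat.card D * D.relIndex (A ⊔ D) * Nat.card (A ⊓ D : Subgroup P) := by ring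
    _ = _ := h3
    _ = _ := by ring

/-- `V ≤ O₂(P)`. -/
theorem V_le_pCore : d.V ≤ Cfsg.pCore 2 P := by
  haveI := Fact.mk Nat.prime_two
  haveI := d.solvable
  set Q := Cfsg.pCore 2 P with hQ
  by_contra hVQ
  set π := QuotientGroup.mk' Q with hπ
  haveI : Group.IsSolvable (P ⧸ Q) := Group.isSolvable_of_surjective (QuotientGroup.mk'_surjective Q)
  have hO : Cfsg.pCore 2 (P ⧸ Q) = ⊥ := CfsgLib.Coprime.pCore_quotient_eq_bot 2
  have hcV : ∀ a ∈ d.V, ∀ b ∈ d.V, a * b = b * a := fun a ha b hb =>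
    congrArg Subtype.val (d.elem.1.is_comm.comm (⟨a, ha⟩ : d.V) ⟨b, hb⟩)
  have hXb : Cfsg.IsElementaryAbelian 2 (d.V.map π) := by
    refine ⟨⟨⟨fun a b => Subtype.ext ?_⟩⟩, ?_⟩
    · obtain ⟨a', ha, ea⟩ := a.2
      obtain ⟨b', hb, eb⟩ := b.2
      show (a : P ⧸ Q) * b = b * a
      rw [← ea, ← eb, ← map_mul, ← map_mul, hcV a' ha b' hb]
    · rintro _ ⟨a, ha, rfl⟩
      rw [← map_pow, d.elem.2 a ha, map_one]
  have hne : d.V.map π ≠ ⊥ := fun h => hVQ (by
    rwa [Subgroup.map_eq_bot_iff, hπ, QuotientGroup.ker_mk'] at h)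
  obtain ⟨X₁, hX₁, hX₁i, sb, hsF, hsX₁, yb, hyb, hsy⟩ := exists_hyperplane hO _ hXb hne
  obtain ⟨y, hyV, rfl⟩ := hyb
  obtain ⟨s, rfl⟩ := QuotientGroup.mk'_surjective Q sb
  set A := d.V ⊓ X₁.comap π with hA
  have hAi : A.relIndex d.V = 2 := by
    rw [hA, inf_relIndex_left, relIndex_comap, hX₁i]
  have hyy : y * y = 1 := by rw [← pow_two]; exact d.elem.2 y hyV
  have hyinv : y⁻¹ = y := inv_eq_of_mul_eq_one_right hyy
  set r₀ := s⁻¹ * (y * s * y) with hr₀
  obtain ⟨a₀, hodd⟩ := exists_odd_pow r₀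
  set r := r₀ ^ 2 ^ a₀ with hr
  set k := orderOf r with hkdef
  have hrk : r ^ k = 1 := pow_orderOf_eq_one r
  have hinv : y * r * y⁻¹ * r = 1 := by
    have e : y * r₀ * y⁻¹ = r₀⁻¹ := eq_inv_of_mul_eq_one_left (mul_inv_conj hyy s)
    rw [hr, ← conj_pow, e, inv_pow, inv_mul_cancel]
  -- `r` is nontrivial modulo `Q`
  have hrQ : r ∉ Q := by
    intro h
    haveI : (Cfsg.fittingSubgroup (P ⧸ Q)).Normal := CfsgLib.Coprime.fitting_normal
    have h1 : π r₀ ^ 2 ^ a₀ ∈ (⊥ : Subgroup (P ⧸ Q)) := by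
      rw [← map_pow, ← hr, mem_bot]
      exact (QuotientGroup.eq_one_iff r).2 h
    have hF : π r₀ ∈ Cfsg.fittingSubgroup (P ⧸ Q) := by
      rw [hr₀, map_mul, map_inv, map_mul, map_mul]
      refine mul_mem (inv_mem hsF) ?_
      have e := Subgroup.Normal.conj_mem (H := Cfsg.fittingSubgroup (P ⧸ Q)) inferInstance _ hsF (π y)
      rwa [← map_inv π y, hyinv] at e
    have hoF : Odd (orderOf (π r₀)) := Nat.not_even_iff_odd.1 fun he =>
      CfsgLib.PGroup.not_dvd_card_fitting hO (he.two_dvd.trans (orderOf_dvd_natCard _ hF))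
    have h2 := mem_bot.1 (mem_of_pow_two_mem hoF h1)
    rw [hr₀, map_mul, map_inv, inv_mul_eq_one, map_mul, map_mul] at h2
    refine hsy ?_
    calc π y * π s = π y * π s * (π y * π y) := by rw [← map_mul π y y, hyy, map_one, mul_one]
      _ = π y * π s * π y * π y := (mul_assoc _ _ _).symm
      _ = π s * π y := by rw [← h2]
  -- the hyperplane is centralised modulo `V ∩ Q`
  set Cv := d.V ⊓ centralizer ({r} : Set P) with hCv
  have hAW : A ≤ (d.V ⊓ Q) ⊔ Cv := by
    rintro a ⟨haV, haX⟩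
    have hca : π a * π r = π r * π a := by
      have h1 : Commute (π a) (π s) := hsX₁ _ haX
      have h2 : Commute (π a) (π y) := by
        show π a * π y = π y * π a
        rw [← map_mul, ← map_mul, hcV a haV y hyV]
      have h3 : Commute (π a) (π r₀) := by
        rw [hr₀, map_mul, map_inv, map_mul, map_mul]
        exact h1.inv_right.mul_right ((h2.mul_right h1).mul_right h2)
      rw [hr, map_pow]
      exact h3.pow_right _
    have hz : r⁻¹ * (a * r * a⁻¹) ∈ Q := by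
      rw [← QuotientGroup.eq_one_iff (N := Q), ← QuotientGroup.mk'_apply, ← hπ, map_mul, map_mul,
        map_mul, map_inv, map_inv, hca, mul_inv_cancel_right, inv_mul_cancel]
    obtain ⟨u, hu, hue⟩ := d.exists_conjugator hyV hinv hodd hrk _ Q le_rfl inferInstance le_rfl _ hz
      (by
        rw [mul_inv_cancel_left]
        calc y * (a * r * a⁻¹) * y⁻¹ = (y * a) * r * (y * a)⁻¹ := by group
          _ = a * (y * r * y⁻¹) * a⁻¹ := by rw [hcV y hyV a haV]; group
          _ = (a * r * a⁻¹)⁻¹ := by rw [eq_inv_of_mul_eq_one_left hinv]; group)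
      (by rw [mul_inv_cancel_left, conj_pow, hrk, mul_one, mul_inv_cancel])
    rw [mul_inv_cancel_left] at hue
    rw [show a = u * (u⁻¹ * a) by group]
    refine mul_mem (mem_sup_left hu) (mem_sup_right <| mem_inf.2 ⟨mul_mem (inv_mem hu.1) haV,
      mem_centralizer_singleton_iff.2 ?_⟩)
    calc u⁻¹ * a * r = u⁻¹ * (a * r * a⁻¹) * a := by group
      _ = r * (u⁻¹ * a) := by rw [hue]; group
  -- the two bounds
  set V₀ := d.V ⊓ Q with hV₀
  set f : P → ℕ := fun g => (centralizer (d.V : Set P)).relIndex (conjBy g V₀) with hf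
  have hneP : ∀ (A B : Subgroup P), A.relIndex B ≠ 0 := fun A B =>
    (A.subgroupOf B).index_ne_zero_of_finite
  have hbound : ∀ g, (∀ c ∈ Cv, c * g = g * c) → f g ^ 2 ≤ 2 * f g⁻¹ := by
    intro g hg
    set X := conjBy g V₀ with hX
    have hXQ : X ≤ Q := CfsgLib.Fusion.conjBy_le_iff.2 fun v hv => pCore_two_normal.conj_mem v hv.2 g
    have hXs : ∀ x ∈ X, x * x ∈ centralizer (d.V : Set P) := by
      rintro _ ⟨v, hv, rfl⟩
      rw [← map_mul, ← pow_two, d.elem.2 v hv.1, map_one]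
      exact one_mem _
    refine (d.bound X hXQ hXs).trans ?_
    set W := V₀ ⊔ Cv with hW
    have hWV : W ≤ d.V := sup_le inf_le_left inf_le_left
    set C := centralizer (X : Set P) ⊓ W with hC
    have hCvC : Cv ≤ C := le_inf (fun c hc => mem_centralizer_iff.2 (by
      rintro _ ⟨v, hv, rfl⟩
      show g * v * g⁻¹ * c = c * (g * v * g⁻¹)
      have h1 : Commute c g := hg c hc
      have h2 : Commute c v := hcV c hc.1 v hv.1
      exact ((h1.mul_right h2).mul_right h1.inv_right).eq.symm)) le_sup_right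
    have hnorm : V₀ ≤ Subgroup.normalizer (C : Set P) := fun v hv =>
      CfsgLib.Fusion.conjBy_eq_iff.1 (CfsgLib.Fusion.conjBy_eq_of_le
        (CfsgLib.Fusion.conjBy_le_iff.2 fun c hc => by
          rw [hcV v hv.1 c (hWV hc.2), mul_inv_cancel_right]
          exact hc))
    have hWC : C.relIndex W = C.relIndex V₀ := by
      have e : V₀ ⊔ C = W := le_antisymm (sup_le le_sup_left inf_le_right)
        (sup_le le_sup_left (hCvC.trans le_sup_right))
      rw [← e, relIndex_sup_of_normalizes hnorm]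
    have hWi : W.relIndex d.V ≤ 2 := hAi ▸ relIndex_le_of_le_left hAW (hneP _ _)
    calc (centralizer (X : Set P)).relIndex d.V ≤ C.relIndex d.V :=
          relIndex_le_of_le_left inf_le_left (hneP _ _)
      _ = C.relIndex V₀ * W.relIndex d.V := by
          rw [← hWC, relIndex_mul_relIndex C W d.V inf_le_right hWV]
      _ ≤ f g⁻¹ * 2 := by
          refine Nat.mul_le_mul ?_ hWi
          have e1 : C.relIndex V₀ = (centralizer (X : Set P)).relIndex V₀ := by
            rw [← inf_relIndex_right (centralizer (X : Set P)) V₀, ← inf_relIndex_right C V₀, hC,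
              inf_assoc, inf_eq_right.2 (le_sup_left : V₀ ≤ W)]
          rw [e1, ← relIndex_centralizer_conjBy g⁻¹, hX, CfsgLib.Fusion.conjBy_inv_conjBy]
          exact relIndex_le_of_le_left (centralizer_le inf_le_left) (hneP _ _)
      _ = 2 * f g⁻¹ := mul_comm _ _
  have hb1 := hbound r fun c hc => mem_centralizer_singleton_iff.1 hc.2
  have hb2 := hbound r⁻¹ fun c hc =>
    ((show Commute c r from mem_centralizer_singleton_iff.1 hc.2).inv_right).eq
  rw [inv_inv] at hb2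
  -- four cosets on the Frattini quotient
  set Φ := (frattini Q).map Q.subtype with hΦ
  haveI : Φ.Normal := CfsgLib.Coprime.map_subtype_normal_of_characteristic Q (frattini Q)
  have hQp : IsPGroup 2 Q := CfsgLib.Coprime.pCore_isPGroup (G := P) 2
  set π' := QuotientGroup.mk' Φ with hπ'
  set Qb := Q.map π' with hQb
  have hQbe : Cfsg.IsElementaryAbelian 2 Qb := frattiniQuot_elementary Q hQp
  letI := commGroupOf hQbe
  haveI : Qb.Normal := pCore_two_normal.map π' (QuotientGroup.mk'_surjective Φ)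
  have hY := sq_of_elementary hQbe
  set φ : P →* MulAut Qb := MulAut.conjNormal.comp π' with hφ
  let cl : Q →* Qb := (π'.comp Q.subtype).codRestrict Qb fun q => mem_map_of_mem π' q.2
  have hcls : ∀ w : Qb, ∃ q : Q, cl q = w := by
    rintro ⟨_, q, hq, rfl⟩
    exact ⟨⟨q, hq⟩, rfl⟩
  have hφcl : ∀ (g : P) (q : Q), φ g (cl q) = cl ⟨g * q * g⁻¹, (pCore_two_normal (P := P)).conj_mem (q : P) q.2 g⟩ :=
    fun g q => Subtype.ext ((MulAut.conjNormal_apply _ _).trans (by
      show π' g * π' q * (π' g)⁻¹ = π' (g * q * g⁻¹)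
      rw [map_mul, map_mul, map_inv]))
  have hFree : Free φ := free_of_conj
    (fun h => d.free (CfsgLib.Fusion.involves_of_surjective π' (QuotientGroup.mk'_surjective Φ) h))
    π' Qb.subtype Qb.subtype_injective hY fun g w => MulAut.conjNormal_apply _ _
  have hswap : ∀ w, φ y (φ r w) = φ r⁻¹ (φ y w) := fun w => by
    rw [← apply_mul, ← apply_mul, ← eq_inv_of_mul_eq_one_left hinv, inv_mul_cancel_right]
  have hyy' : ∀ w, φ y (φ y w) = w := fun w => by rw [← apply_mul, hyy, map_one, MulAut.one_apply]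
  have hrfix : ∀ w, φ (r ^ k) w = w := fun w => by rw [hrk, map_one, MulAut.one_apply]
  set D := (delt φ r).range with hD
  have hDr : ∀ a ∈ D, φ r a ∈ D := by
    rintro _ ⟨w, rfl⟩
    exact ⟨φ r w, by rw [delt_apply, delt_apply, map_div]⟩
  have hDy : ∀ a ∈ D, φ y a ∈ D := by
    rintro _ ⟨w, rfl⟩
    refine ⟨φ r⁻¹ (φ y w), ?_⟩
    rw [delt_apply, delt_apply, map_div, hswap, ← apply_mul, mul_inv_cancel, map_one,
      MulAut.one_apply, ← inv_div, inv_eq hY]
  have hmove : ∃ a ∈ D, φ r a ≠ a := by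
    by_contra hcon
    push Not at hcon
    refine hrQ (d.constrained ?_)
    have hr1 : ∀ w, φ r w = w := fun w => div_eq_one.1
      (delt_eq_one φ hY hodd (hrfix w) (hcon _ ⟨w, rfl⟩))
    refine CfsgLib.Coprime.le_centralizer_of_trivial_on_frattini_quotient (A := zpowers r) (K := Q)
      (by rw [normalizer_eq_top]; exact le_top) ?_ ?_ (mem_zpowers r)
    · obtain ⟨j, hj⟩ := (hQp.to_subgroup (frattini Q)).exists_card_eq
      rw [hj, Nat.card_zpowers]
      exact (Nat.coprime_two_right.2 hodd).pow_right j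
    · intro a ha q hq
      have hfixa : φ a (cl ⟨q, hq⟩) = cl ⟨q, hq⟩ := by
        have hle : zpowers r ≤ fixer φ {cl ⟨q, hq⟩} := zpowers_le.2 fun z hz => by
          rw [Set.mem_singleton_iff.1 hz]; exact hr1 _
        exact hle ha _ rfl
      rw [hφcl] at hfixa
      have e : π' (a * q * a⁻¹) = π' q := congrArg Subtype.val hfixa
      rw [← hΦ, ← QuotientGroup.eq_one_iff (N := Φ), ← QuotientGroup.mk'_apply, ← hπ', map_mul,
        map_inv, e, mul_inv_cancel]
  have h4 := four_le hFree hY D y r (fun w _ => by rw [hyy, map_one, MulAut.one_apply])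
    (fun w _ => by rw [hinv, map_one, MulAut.one_apply]) ⟨k, hodd, fun w _ => hrfix w⟩ hDy hDr hmove
  set I := D.map (delt φ y) with hI
  set rI := I.map ((φ r : Qb ≃* Qb).toMonoidHom) with hrI
  have hkery : (delt φ y).ker = fx φ {y} := by
    ext u
    rw [MonoidHom.mem_ker, delt_apply, div_eq_one, mem_fx]
    exact ⟨fun h z hz => by rw [Set.mem_singleton_iff.1 hz]; exact h, fun h => h y rfl⟩
  have hI4 : 4 ≤ Nat.card I := by rwa [hI, ← relIndex_ker, hkery]
  have hIfix : ∀ a ∈ I, φ y a = a := by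
    rintro _ ⟨w, -, rfl⟩
    rw [delt_apply, map_div, hyy', ← inv_div, inv_eq hY]
  have hID : I ≤ D := by
    rintro _ ⟨w, hw, rfl⟩
    exact div_mem (hDy w hw) hw
  have hmeet : fx φ {y} ⊓ rI = ⊥ := by
    rw [eq_bot_iff]
    rintro _ ⟨he, a, ha, rfl⟩
    have e1 : φ y (φ r a) = φ r a := he y rfl
    rw [hswap, hIfix a ha] at e1
    have e2 : φ r (φ r a) = a := by
      rw [← e1, ← apply_mul, mul_inv_cancel, map_one, MulAut.one_apply]
    obtain ⟨w, hw⟩ := hID ha
    have e3 := fixed_of_sq_fixed φ hodd hrk e2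
    rw [← hw] at e3
    have e4 : a = 1 := by rw [← hw]; exact delt_eq_one φ hY hodd (hrfix w) e3
    show φ r a ∈ (⊥ : Subgroup Qb)
    rw [e4, map_one]
    exact one_mem _
  set X := conjBy r V₀ with hX
  have hXQ : X ≤ Q := CfsgLib.Fusion.conjBy_le_iff.2 fun v hv => pCore_two_normal.conj_mem v hv.2 r
  let η : X →* Qb := cl.comp (Subgroup.inclusion hXQ)
  have hrange : rI ≤ η.range := by
    rintro _ ⟨_, ⟨w, -, rfl⟩, rfl⟩
    obtain ⟨q, rfl⟩ := hcls w
    set u := y * q * y⁻¹ * (q : P)⁻¹ with hu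
    have huQ : u ∈ Q := mul_mem ((pCore_two_normal (P := P)).conj_mem (q : P) q.2 y) (inv_mem q.2)
    have huV : u ∈ d.V := by
      rw [hu, show y * q * y⁻¹ * (q : P)⁻¹ = y * (q * y⁻¹ * (q : P)⁻¹) by group]
      exact mul_mem hyV ((mem_normalizer_iff.1 (d.norm (d.pCore_le_T q.2)) _).1 (inv_mem hyV))
    refine ⟨⟨r * u * r⁻¹, CfsgLib.Fusion.conj_mem_conjBy ⟨huV, huQ⟩⟩, ?_⟩
    show cl ⟨r * u * r⁻¹, _⟩ = φ r (delt φ y (cl q))
    rw [delt_apply, hφcl y q, ← map_div, hφcl]
    exact congrArg cl (Subtype.ext (by simp [hu, div_eq_mul_inv]))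
  have hcomap : (centralizer ({y} : Set P)).subgroupOf X ≤ (fx φ {y}).comap η := by
    intro x hx a ha
    rw [Set.mem_singleton_iff.1 ha]
    show φ y (cl ⟨x, hXQ x.2⟩) = cl ⟨x, hXQ x.2⟩
    rw [hφcl]
    refine congrArg cl (Subtype.ext ?_)
    show y * x * y⁻¹ = x
    rw [← mem_centralizer_singleton_iff.1 (mem_subgroupOf.1 hx), mul_inv_cancel_right]
  have hfr : 4 ≤ f r := by
    calc 4 ≤ Nat.card rI := hI4.trans (card_map_of_injective (φ r).injective).ge
      _ = (fx φ {y}).relIndex rI := by rw [← relIndex_bot_left rI, ← hmeet, inf_relIndex_right]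
      _ ≤ (fx φ {y}).relIndex η.range :=
          relIndex_le_of_le_right hrange ((fx φ {y}).subgroupOf η.range).index_ne_zero_of_finite
      _ = ((fx φ {y}).comap η).index := (index_comap _ η).symm
      _ ≤ ((centralizer ({y} : Set P)).subgroupOf X).index :=
          Nat.le_of_dvd (Nat.pos_of_ne_zero (index_ne_zero_of_finite)) (index_dvd_of_le hcomap)
      _ ≤ f r := relIndex_le_of_le_left (centralizer_le (Set.singleton_subset_iff.2 hyV)) (hneP _ _)
  have h16 : 4 * 4 ≤ f r ^ 2 := by rw [pow_two]; exact Nat.mul_le_mul hfr hfr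
  have h64 : 64 ≤ f r⁻¹ ^ 2 := by
    have : 8 ≤ f r⁻¹ := by omega
    rw [pow_two]
    exact Nat.mul_le_mul this this
  have h32 : 32 ≤ f r := by omega
  have h5 : f r ^ 4 ≤ 8 * f r := by
    calc f r ^ 4 = (f r ^ 2) ^ 2 := by ring
      _ ≤ (2 * f r⁻¹) ^ 2 := Nat.pow_le_pow_left hb1 2
      _ = 4 * f r⁻¹ ^ 2 := by ring
      _ ≤ 4 * (2 * f r) := Nat.mul_le_mul_left 4 hb2
      _ = 8 * f r := by ring
  have h6 : f r * 16 * f r ≤ f r ^ 4 := by
    calc f r * 16 * f r = 4 * 4 * (f r) ^ 2 := by ring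
      _ ≤ f r ^ 2 * f r ^ 2 := Nat.mul_le_mul_right _ h16
      _ = f r ^ 4 := by ring
  nlinarith

end Pair

end CfsgLib.FourFree
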