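import Cfsg.Agent.Lib.PGroup.FourFree.PairInside
import Cfsg.Agent.Lib.PGroup.FourFree.Strict

/-!
# The normal closure of the module in `P` and the bounds on it
-/

set_option autoImplicit false
set_option linter.style.haveILetI false
set_option linter.unusedSectionVars false

open Subgroup

namespace CfsgLib.FourFree

open CfsgLib.Fusion (conjBy)

universe u

/-- Elementwise commuting involutions generate an elementary abelian group. -/
theorem elementary_iSup {G : Type u} [Group G] {ι : Type*} (V : ι → Subgroup G)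
    (h2 : ∀ i, ∀ x ∈ V i, x * x = 1) (hc : ∀ i j, V j ≤ centralizer (V i : Set G)) :
    Cfsg.IsElementaryAbelian 2 (⨆ i, V i) := by
  set U := ⨆ i, V i with hU
  have hUC : U ≤ centralizer (U : Set G) := by
    refine iSup_le fun j => le_centralizer_iff.1 ?_
    exact iSup_le fun i => hc j i
  have hcomm : ∀ a ∈ U, ∀ b ∈ U, a * b = b * a := fun a ha b hb =>
    mem_centralizer_iff.1 (hUC hb) a ha
  let E : Subgroup G :=
    { carrier := {x | x ∈ U ∧ x * x = 1}
      one_mem' := ⟨one_mem U, one_mul 1⟩
      mul_mem' := fun {a b} ha hb => ⟨mul_mem ha.1 hb.1, by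
        rw [mul_assoc, ← mul_assoc b, ← hcomm a ha.1 b hb.1, mul_assoc a b, hb.2, mul_one, ha.2]⟩
      inv_mem' := fun {a} ha => ⟨inv_mem ha.1, by rw [← mul_inv_rev, ha.2, inv_one]⟩ }
  have hle : U ≤ E := iSup_le fun i x hx => ⟨le_iSup V i hx, h2 i x hx⟩
  exact ⟨⟨⟨fun a b => Subtype.ext (hcomm a a.2 b b.2)⟩⟩,
    fun a ha => by rw [pow_two]; exact (hle ha).2⟩

variable {P : Type u} [Group P] [Finite P]

namespace Pair

variable (d : Pair P)

/-- The normal closure of `V` in `P`. -/
def U : Subgroup P := ⨆ p : P, conjBy p d.V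

theorem conj_le_U (p : P) : conjBy p d.V ≤ d.U := le_iSup (fun p : P => conjBy p d.V) p

theorem V_le_U : d.V ≤ d.U := by
  have h := d.conj_le_U 1
  rwa [CfsgLib.Fusion.conjBy_one] at h

instance U_normal : d.U.Normal := by
  refine ⟨fun x hx g => ?_⟩
  have h1 := CfsgLib.Fusion.conj_mem_conjBy (g := g) hx
  rw [U, conjBy, Subgroup.map_iSup] at h1
  refine (iSup_le fun p => ?_ : ⨆ p : P, conjBy g (conjBy p d.V) ≤ d.U) h1
  rw [CfsgLib.Fusion.conjBy_conjBy]
  exact d.conj_le_U _

theorem U_le_pCore : d.U ≤ Cfsg.pCore 2 P := iSup_le fun p =>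
  CfsgLib.Fusion.conjBy_le_iff.2 fun v hv =>
    (pCore_two_normal (P := P)).conj_mem v (d.V_le_pCore hv) p

theorem centralizer_U_le : centralizer (d.U : Set P) ≤ Subgroup.normalizer (d.V : Set P) :=
  (centralizer_le d.V_le_U).trans (centralizer_le_normalizer _)

theorem centralizer_conj_le (g : P) : conjBy g d.V ≤ centralizer (d.V : Set P) := by
  set a := (centralizer (d.V : Set P)).relIndex (conjBy g d.V)
  set b := (centralizer (conjBy g d.V : Set P)).relIndex d.V
  have hsq : ∀ h : P, ∀ x ∈ conjBy h d.V, x * x ∈ centralizer (d.V : Set P) := by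
    rintro h _ ⟨v, hv, rfl⟩
    rw [← map_mul, ← pow_two, d.elem.2 v hv, map_one]
    exact one_mem _
  have hQ : ∀ h : P, conjBy h d.V ≤ Cfsg.pCore 2 P := fun h => (d.conj_le_U h).trans d.U_le_pCore
  have h1 : a ^ 2 ≤ b := d.bound _ (hQ g) (hsq g)
  have h2 : b ^ 2 ≤ a := by
    have h := d.bound _ (hQ g⁻¹) (hsq g⁻¹)
    rw [← relIndex_centralizer_conjBy g, ← relIndex_centralizer_conjBy g (conjBy g⁻¹ d.V) d.V,
      CfsgLib.Fusion.conjBy_conjBy_inv] at h
    exact h
  have ha : a ≠ 0 := ((centralizer (d.V : Set P)).subgroupOf _).index_ne_zero_of_finite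
  have ha1 : a = 1 := by
    have h4 : a ^ 4 ≤ a ^ 1 := by
      calc a ^ 4 = (a ^ 2) ^ 2 := by ring
        _ ≤ b ^ 2 := Nat.pow_le_pow_left h1 2
        _ ≤ a ^ 1 := by rw [pow_one]; exact h2
    by_contra hne
    have : 2 ≤ a := by omega
    have := (Nat.pow_le_pow_iff_right (by omega : 1 < a)).1 h4
    omega
  exact relIndex_eq_one.1 ha1

theorem U_elem : Cfsg.IsElementaryAbelian 2 d.U := by
  refine elementary_iSup _ ?_ fun p q => ?_
  · rintro p _ ⟨v, hv, rfl⟩
    rw [← map_mul, ← pow_two, d.elem.2 v hv, map_one]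
  · have h := CfsgLib.Fusion.conjBy_mono (g := p) (d.centralizer_conj_le (p⁻¹ * q))
    rwa [CfsgLib.Fusion.conjBy_conjBy, CfsgLib.Fusion.conjBy_centralizer, mul_inv_cancel_left] at h

/-- The bound on the normal closure for subgroups of `O₂(P)`. -/
theorem tele (X : Subgroup P) (hX : X ≤ Cfsg.pCore 2 P)
    (hXs : ∀ x ∈ X, x * x ∈ centralizer (d.U : Set P)) :
    (centralizer (d.U : Set P)).relIndex X ^ 2 ≤ (centralizer (X : Set P)).relIndex d.U := by
  classical
  letI := Fintype.ofFinite P
  have hne : ∀ (A B : Subgroup P), A.relIndex B ≠ 0 := fun A B =>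
    (A.subgroupOf B).index_ne_zero_of_finite
  have key : ∀ S : Finset P, (centralizer ((⨆ p ∈ S, conjBy p d.V : Subgroup P) : Set P)).relIndex X ^ 2 ≤
      (centralizer (X : Set P)).relIndex (⨆ p ∈ S, conjBy p d.V : Subgroup P) := by
    intro S
    induction S using Finset.induction_on with
    | empty =>
      simp only [Finset.notMem_empty, iSup_false, iSup_bot]
      rw [relIndex_eq_one.2 (fun x _ => mem_centralizer_iff.2 fun u hu => by
        rw [mem_bot.1 hu, one_mul, mul_one]), one_pow]
      exact Nat.pos_of_ne_zero (hne _ _)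
    | insert p S _ ih =>
      rw [Finset.iSup_insert]
      set V' := conjBy p d.V with hV'
      set US := ⨆ q ∈ S, conjBy q d.V with hUS
      set X₁ := X ⊓ centralizer (US : Set P) with hX₁
      have hb : (centralizer (V' : Set P)).relIndex X₁ ^ 2 ≤
          (centralizer (X₁ : Set P)).relIndex V' := by
        have hQ : conjBy p⁻¹ X₁ ≤ Cfsg.pCore 2 P := CfsgLib.Fusion.conjBy_le_iff.2 fun x hx =>
          (pCore_two_normal (P := P)).conj_mem x (hX hx.1) p⁻¹
        have hs : ∀ x ∈ conjBy p⁻¹ X₁, x * x ∈ centralizer (d.V : Set P) := by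
          rintro _ ⟨x, hx, rfl⟩
          rw [← map_mul]
          exact centralizer_le d.V_le_U (Normal.conj_mem
            (H := centralizer (d.U : Set P)) inferInstance _ (hXs x hx.1) p⁻¹)
        have h := d.bound _ hQ hs
        rwa [← relIndex_centralizer_conjBy p, ← relIndex_centralizer_conjBy p (conjBy p⁻¹ X₁) d.V,
          CfsgLib.Fusion.conjBy_conjBy_inv] at h
      have hC : (centralizer ((V' ⊔ US : Subgroup P) : Set P)).relIndex X =
          (centralizer (V' : Set P)).relIndex X₁ * (centralizer (US : Set P)).relIndex X := by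
        have e : centralizer ((V' ⊔ US : Subgroup P) : Set P) =
            centralizer (V' : Set P) ⊓ centralizer (US : Set P) := le_antisymm
          (le_inf (centralizer_le (SetLike.coe_subset_coe.2 le_sup_left))
            (centralizer_le (SetLike.coe_subset_coe.2 le_sup_right)))
          (le_centralizer_iff.1 (sup_le (le_centralizer_iff.1 inf_le_left)
            (le_centralizer_iff.1 inf_le_right)))
        have h := relIndex_mul_relIndex (X₁ ⊓ centralizer (V' : Set P)) X₁ X inf_le_left inf_le_left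
        rw [inf_relIndex_left, hX₁, inf_relIndex_left] at h
        rw [e, hX₁, h, inf_assoc, inf_comm (centralizer (US : Set P)), inf_relIndex_left]
      rw [hC, mul_pow]
      set F := centralizer (X : Set P) with hF
      set D := centralizer (X₁ : Set P) with hD
      set W := V' ⊔ US with hW
      have hFD : F ≤ D := centralizer_le inf_le_left
      have hUSD : US ≤ D := le_centralizer_iff.1 inf_le_right
      calc (centralizer (V' : Set P)).relIndex X₁ ^ 2 * (centralizer (US : Set P)).relIndex X ^ 2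
          ≤ D.relIndex W * F.relIndex (D ⊓ W) := Nat.mul_le_mul
            (hb.trans (relIndex_le_of_le_right le_sup_left (hne _ _)))
            (ih.trans (relIndex_le_of_le_right (le_inf hUSD le_sup_right) (hne _ _)))
        _ = F.relIndex W := by
          have h := relIndex_mul_relIndex (F ⊓ W) (D ⊓ W) W (inf_le_inf_right W hFD) inf_le_right
          rw [inf_relIndex_right, inf_relIndex_right] at h
          rw [← h, mul_comm, ← inf_relIndex_right (F ⊓ W) (D ⊓ W), inf_assoc,
            inf_eq_right.2 (inf_le_right : D ⊓ W ≤ W), inf_relIndex_right]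
  have h := key Finset.univ
  have e : (⨆ p ∈ (Finset.univ : Finset P), conjBy p d.V : Subgroup P) = d.U := by
    simp [Pair.U]
  rwa [e] at h

/-- The bounds for an elementary abelian subgroup of `P` acting on the normal closure. -/
theorem bounds (Y : Subgroup P) (hY : Cfsg.IsElementaryAbelian 2 Y) :
    ∃ a b : ℕ, (centralizer (d.U : Set P)).relIndex Y ≤ a * b ∧
      a ^ 2 ≤ (centralizer (Y : Set P)).relIndex d.U ∧
      b ^ 2 ≤ (centralizer (Y : Set P)).relIndex d.U ∧
      (a ^ 2 = (centralizer (Y : Set P)).relIndex d.U → b = a → a ≤ 1) := by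
  haveI := d.solvable
  haveI := Fact.mk Nat.prime_two
  letI := commGroupOf d.U_elem
  set φ : P →* MulAut d.U := MulAut.conjNormal with hφ
  set Q := Cfsg.pCore 2 P with hQ
  have hne : ∀ (A B : Subgroup P), A.relIndex B ≠ 0 := fun A B =>
    (A.subgroupOf B).index_ne_zero_of_finite
  have hyy : ∀ y ∈ Y, y * y = 1 := fun y hy => by rw [← pow_two]; exact hY.2 y hy
  have hker : φ.ker = centralizer (d.U : Set P) := conjNormal_ker
  have hJE : J φ ⊥ ⊤ ≤ d.E := d.J_le_E φ (hker.le.trans d.centralizer_U_le)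
  have hfree := free_conjNormal d.free d.U_elem
  have hYs : ∀ y ∈ Y, ∀ u, φ (y * y) u = u := fun y hy u => by
    rw [hyy y hy, map_one, MulAut.one_apply]
  have ha : Q.relIndex Y ^ 2 ≤ (centralizer (Y : Set P)).relIndex d.U := by
    have h := (loss_le hfree (sq_of_elementary d.U_elem) _ ⊥ ⊤ le_rfl (inv_bot φ) (inv_top φ)
      bot_le Y hYs).1
    rw [fxs_bot_top, relIndex_top_right, index_fx_conjNormal d.U_elem] at h
    refine (Nat.pow_le_pow_left ?_ 2).trans h
    rw [← inf_relIndex_right (J φ ⊥ ⊤) Y]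
    exact relIndex_le_of_le_left (fun z hz => d.mem_pCore_of_mem_E (hJE hz.1) (hyy z hz.2))
      (by rw [inf_relIndex_right]; exact hne _ _)
  have hb : (centralizer (d.U : Set P)).relIndex (Y ⊓ Q : Subgroup P) ^ 2 ≤
      (centralizer ((Y ⊓ Q : Subgroup P) : Set P)).relIndex d.U :=
    d.tele _ inf_le_right fun y hy => by rw [hyy y hy.1]; exact one_mem _
  have hmono : (centralizer ((Y ⊓ Q : Subgroup P) : Set P)).relIndex d.U ≤
      (centralizer (Y : Set P)).relIndex d.U :=
    relIndex_le_of_le_left (centralizer_le inf_le_left) (hne _ _)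
  refine ⟨Q.relIndex Y, (centralizer (d.U : Set P)).relIndex (Y ⊓ Q : Subgroup P), ?_, ha,
    hb.trans hmono, fun he1 he2 => ?_⟩
  · set C := centralizer (d.U : Set P)
    have h := relIndex_mul_relIndex (Y ⊓ Q ⊓ C) (Y ⊓ Q) Y inf_le_left inf_le_left
    rw [inf_relIndex_left, inf_relIndex_left] at h
    rw [mul_comm, h, ← inf_relIndex_right C Y]
    exact relIndex_le_of_le_left (fun z hz => ⟨hz.2, hz.1.1⟩) (hne _ _)
  · by_contra hn
    refine strict_false (φ := φ) d.free hfree (sq_of_elementary d.U_elem) Q d.E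
      (CfsgLib.Coprime.pCore_isPGroup (G := P) 2) (fun x hx hxx => d.mem_pCore_of_mem_E hx hxx)
      hJE d.not_stab ?_ Y hY (Q.relIndex Y) (Nat.lt_of_not_le hn) ?_ rfl ?_ ?_
    · intro H hH hsq
      rw [hker, index_fx_conjNormal d.U_elem]
      refine d.tele H hH fun h hh => ?_
      rw [← hker, MonoidHom.mem_ker]
      exact hsq h hh
    · rw [hker, he2]
    · rw [index_fx_conjNormal d.U_elem]
      refine le_antisymm (hmono.trans he1.ge) ?_
      rw [← he2]
      exact hb
    · rw [index_fx_conjNormal d.U_elem, he1]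

end Pair

end CfsgLib.FourFree
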