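import Cfsg.Agent.Lib.PGroup.FourFree.Conj

/-!
# The bound `|X : C_X(U)|² ≤ |U : C_U(X)|` for conjugation
-/

set_option autoImplicit false
set_option linter.style.haveILetI false
set_option linter.unusedSectionVars false

open Subgroup

namespace CfsgLib.FourFree

universe u v

variable {P : Type u} [Group P] [Finite P]

theorem K_bot_top {Y : Type v} [CommGroup Y] (φ : P →* MulAut Y) : K φ ⊥ ⊤ = φ.ker := by
  ext p
  rw [mem_K (inv_bot φ) (inv_top φ), MonoidHom.mem_ker]
  refine ⟨fun h => MulEquiv.ext fun b => div_eq_one.1 (mem_bot.1 (h b (mem_top b))), fun h b _ => ?_⟩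
  rw [h, MulAut.one_apply, div_self']
  exact one_mem _

theorem fxs_bot_top {Y : Type v} [CommGroup Y] (φ : P →* MulAut Y) (S : Set P) :
    fxs φ ⊥ ⊤ S = fx φ S := by
  ext b
  simp only [mem_fxs, mem_fx, mem_top, true_and, mem_bot, div_eq_one]

variable {U : Subgroup P} [U.Normal]

theorem conjNormal_ker : (MulAut.conjNormal : P →* MulAut U).ker = centralizer (U : Set P) := by
  ext p
  rw [MonoidHom.mem_ker, mem_centralizer_iff]
  refine ⟨fun h u hu => ?_, fun h => MulEquiv.ext fun u => Subtype.ext ?_⟩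
  · have h1 := congrArg (fun e : MulAut U => ((e ⟨u, hu⟩ : U) : P)) h
    simp only [MulAut.conjNormal_apply, MulAut.one_apply] at h1
    exact (mul_inv_eq_iff_eq_mul.1 h1).symm
  · rw [MulAut.conjNormal_apply, MulAut.one_apply, ← h u u.2, mul_inv_cancel_right]

theorem fx_conjNormal (hU : Cfsg.IsElementaryAbelian 2 U) (S : Set P) :
    letI := commGroupOf hU
    fx (MulAut.conjNormal : P →* MulAut U) S = (centralizer S).subgroupOf U := by
  letI := commGroupOf hU
  ext u
  rw [mem_fx, mem_subgroupOf, mem_centralizer_iff]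
  refine forall₂_congr fun s _ => ?_
  rw [← Subtype.coe_inj, MulAut.conjNormal_apply, mul_inv_eq_iff_eq_mul]

theorem index_fx_conjNormal (hU : Cfsg.IsElementaryAbelian 2 U) (S : Set P) :
    letI := commGroupOf hU
    (fx (MulAut.conjNormal : P →* MulAut U) S).index = (centralizer S).relIndex U := by
  letI := commGroupOf hU
  rw [fx_conjNormal hU, relIndex]

theorem free_conjNormal (hP : ¬ Cfsg.Involves (Equiv.Perm (Fin 4)) P)
    (hU : Cfsg.IsElementaryAbelian 2 U) :
    letI := commGroupOf hU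
    Free (MulAut.conjNormal : P →* MulAut U) := by
  letI := commGroupOf hU
  exact free_of_conj hP (MonoidHom.id P) U.subtype U.subtype_injective (sq_of_elementary hU)
    fun h y => MulAut.conjNormal_apply h y

/-- A normal subgroup that is a 2-group modulo a normal subgroup. -/
theorem relIndex_eq_pow (C D : Subgroup P) [C.Normal] (h : ∀ d ∈ D, ∃ k : ℕ, d ^ 2 ^ k ∈ C) :
    ∃ k : ℕ, C.relIndex D = 2 ^ k := by
  haveI := Fact.mk Nat.prime_two
  have hp : IsPGroup 2 (D.map (QuotientGroup.mk' C)) := by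
    rintro ⟨_, d, hd, rfl⟩
    obtain ⟨k, hk⟩ := h d hd
    refine ⟨k, Subtype.ext ?_⟩
    show QuotientGroup.mk' C d ^ 2 ^ k = 1
    rw [← map_pow]
    exact (QuotientGroup.eq_one_iff _).2 hk
  obtain ⟨k, hk⟩ := hp.exists_card_eq
  exact ⟨k, by rw [← QuotientGroup.ker_mk' C, relIndex_ker, hk]⟩

/-- The bound when no nontrivial normal 2-group is induced on the module. -/
theorem sq_le_of_reduced {G : Type u} [Group G] [Finite G] {M V : Subgroup G}
    (hfree : ¬ Cfsg.Involves (Equiv.Perm (Fin 4)) M) (hsol : Group.IsSolvable M)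
    (hV : Cfsg.IsElementaryAbelian 2 V) (hVM : V ≤ M) (hMV : M ≤ Subgroup.normalizer (V : Set G))
    (hred : ∀ D : Subgroup M, D.Normal → centralizer (V.subgroupOf M : Set M) ≤ D →
      (∃ k : ℕ, (centralizer (V.subgroupOf M : Set M)).relIndex D = 2 ^ k) →
        D ≤ centralizer (V.subgroupOf M : Set M))
    (X : Subgroup G) (hXM : X ≤ M) (hX : ∀ x ∈ X, x * x ∈ centralizer (V : Set G)) :
    (centralizer (V : Set G)).relIndex X ^ 2 ≤ (centralizer (X : Set G)).relIndex V := by
  haveI := hsol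
  set V' := V.subgroupOf M with hV'
  haveI : V'.Normal := (normal_subgroupOf_iff_le_normalizer hVM).2 hMV
  have hV'e : Cfsg.IsElementaryAbelian 2 V' :=
    ⟨⟨⟨fun a b => Subtype.ext (Subtype.ext (congrArg (Subtype.val : V → G)
      (hV.1.is_comm.comm (⟨((a : M) : G), a.2⟩ : V) ⟨((b : M) : G), b.2⟩)))⟩⟩,
      fun a ha => Subtype.ext (by rw [coe_pow]; exact hV.2 _ ha)⟩
  letI := commGroupOf hV'e
  set φ : M →* MulAut V' := MulAut.conjNormal with hφ
  set X' := X.subgroupOf M with hX'
  have hker : K φ ⊥ ⊤ = centralizer (V' : Set M) := by rw [K_bot_top, conjNormal_ker]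
  have hJ : J φ ⊥ ⊤ ≤ centralizer (V' : Set M) := by
    refine hred _ (J_normal φ _ _) (hker.ge.trans (K_le_J φ _ _)) ?_
    refine relIndex_eq_pow _ _ fun d hd => ?_
    rw [← hker]
    exact exists_pow_mem_K hd
  have hJe : J φ ⊥ ⊤ = centralizer (V' : Set M) := le_antisymm hJ (hker.ge.trans (K_le_J φ _ _))
  have hsq : ∀ x ∈ X', ∀ y, φ (x * x) y = y := by
    intro x hx y
    have h1 : φ (x * x) = 1 := by
      rw [← MonoidHom.mem_ker, conjNormal_ker, mem_centralizer_iff]
      intro v hv
      exact Subtype.ext (mem_centralizer_iff.1 (hX _ hx) _ hv)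
    rw [h1, MulAut.one_apply]
  have h := (loss_le (free_conjNormal hfree hV'e) (sq_of_elementary hV'e) _ ⊥ ⊤ le_rfl (inv_bot φ)
    (inv_top φ) bot_le X' hsq).1
  rw [hJe, fxs_bot_top, relIndex_top_right, index_fx_conjNormal hV'e,
    ← relIndex_centralizer_map M.subtype M.subtype_injective,
    ← relIndex_centralizer_map M.subtype M.subtype_injective, hX', hV',
    subgroupOf_map_subtype, subgroupOf_map_subtype, inf_eq_left.2 hXM, inf_eq_left.2 hVM] at h
  exact h

end CfsgLib.FourFree
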