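import Cfsg.Agent.Lib.PGroup.FourFree.Action
import Cfsg.Agent.Lib.Coprime.Core

/-!
# Sections of an action, and the bound `|X : X ∩ J|² ≤ |Y : C_Y(X)|`
-/

set_option autoImplicit false
set_option linter.style.haveILetI false
set_option linter.unusedSectionVars false

open Subgroup

namespace CfsgLib.FourFree

universe u v

variable {P : Type u} [Group P] {Y : Type v} [CommGroup Y]

/-- Invariance under all operators. -/
def Inv (φ : P →* MulAut Y) (A : Subgroup Y) : Prop := ∀ p : P, ∀ a ∈ A, φ p a ∈ A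

theorem inv_bot (φ : P →* MulAut Y) : Inv φ ⊥ := fun p a ha => by
  rw [mem_bot.1 ha, map_one]; exact one_mem _

theorem inv_top (φ : P →* MulAut Y) : Inv φ ⊤ := fun _ _ _ => mem_top _

/-- The elements of `B` fixed by a set of operators modulo `A`. -/
def fxs (φ : P →* MulAut Y) (A B : Subgroup Y) (S : Set P) : Subgroup Y where
  carrier := {b | b ∈ B ∧ ∀ x ∈ S, φ x b / b ∈ A}
  one_mem' := ⟨one_mem B, fun x _ => by rw [map_one, div_self']; exact one_mem A⟩
  mul_mem' := fun {a b} ha hb => ⟨mul_mem ha.1 hb.1, fun x hx => by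
    rw [map_mul, mul_div_mul_comm]; exact mul_mem (ha.2 x hx) (hb.2 x hx)⟩
  inv_mem' := fun {a} ha => ⟨inv_mem ha.1, fun x hx => by
    rw [map_inv, inv_div_inv, ← inv_div]
    exact inv_mem (ha.2 x hx)⟩

theorem mem_fxs {φ : P →* MulAut Y} {A B : Subgroup Y} {S : Set P} {b : Y} :
    b ∈ fxs φ A B S ↔ b ∈ B ∧ ∀ x ∈ S, φ x b / b ∈ A := Iff.rfl

theorem fxs_le (φ : P →* MulAut Y) (A B : Subgroup Y) (S : Set P) : fxs φ A B S ≤ B := fun _ h => h.1

variable [Finite P]

/-- Operators trivial on `B/A`, as a monoid. -/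
def rawM (φ : P →* MulAut Y) (A B : Subgroup Y) : Submonoid P where
  carrier := {p | (∀ a ∈ A, φ p a ∈ A) ∧ ∀ b ∈ B, φ p b / b ∈ A}
  one_mem' := ⟨fun a ha => by rwa [map_one, MulAut.one_apply],
    fun b _ => by rw [map_one, MulAut.one_apply, div_self']; exact one_mem A⟩
  mul_mem' := fun {p q} hp hq => ⟨fun a ha => by rw [apply_mul]; exact hp.1 _ (hq.1 a ha),
    fun b hb => by
      rw [apply_mul, ← div_mul_div_cancel (φ p (φ q b)) (φ p b) b, ← map_div]
      exact mul_mem (hp.1 _ (hq.2 b hb)) (hp.2 b hb)⟩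

/-- Operators trivial on `B/A`, before taking the core. -/
def rawK (φ : P →* MulAut Y) (A B : Subgroup Y) : Subgroup P :=
  { rawM φ A B with
    inv_mem' := fun {p} hp => by
      rw [inv_eq_of_mul_eq_one_right (a := p) (b := p ^ (orderOf p - 1))
        (by rw [← pow_succ', Nat.sub_add_cancel (orderOf_pos p), pow_orderOf_eq_one])]
      exact (rawM φ A B).pow_mem hp _ }

theorem mem_rawK {φ : P →* MulAut Y} {A B : Subgroup Y} {p : P} :
    p ∈ rawK φ A B ↔ (∀ a ∈ A, φ p a ∈ A) ∧ ∀ b ∈ B, φ p b / b ∈ A := Iff.rfl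

/-- The kernel of the action on `B/A`. -/
def K (φ : P →* MulAut Y) (A B : Subgroup Y) : Subgroup P := (rawK φ A B).normalCore

theorem K_normal (φ : P →* MulAut Y) (A B : Subgroup Y) : (K φ A B).Normal := normalCore_normal _

theorem mem_K {φ : P →* MulAut Y} {A B : Subgroup Y} (hA : Inv φ A) (hB : Inv φ B) {p : P} :
    p ∈ K φ A B ↔ ∀ b ∈ B, φ p b / b ∈ A := by
  refine ⟨fun h => (mem_rawK.1 (normalCore_le _ h)).2, fun h g =>
    mem_rawK.2 ⟨hA _, fun b hb => ?_⟩⟩
  have h1 := hA g _ (h _ (hB g⁻¹ b hb))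
  rwa [map_div, ← apply_mul, ← apply_mul, ← apply_mul, mul_inv_cancel, map_one, MulAut.one_apply] at h1

/-- The preimage of the largest normal 2-subgroup of the group induced on `B/A`. -/
def J (φ : P →* MulAut Y) (A B : Subgroup Y) : Subgroup P :=
  haveI := K_normal φ A B
  (Cfsg.pCore 2 (P ⧸ K φ A B)).comap (QuotientGroup.mk' (K φ A B))

theorem J_normal (φ : P →* MulAut Y) (A B : Subgroup Y) : (J φ A B).Normal := by
  haveI := K_normal φ A B
  haveI := CfsgLib.Coprime.pCore_normal' (G := P ⧸ K φ A B) 2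
  exact Normal.comap inferInstance _

theorem K_le_J (φ : P →* MulAut Y) (A B : Subgroup Y) : K φ A B ≤ J φ A B := fun p hp => by
  haveI := K_normal φ A B
  show QuotientGroup.mk' (K φ A B) p ∈ Cfsg.pCore 2 (P ⧸ K φ A B)
  rw [show QuotientGroup.mk' (K φ A B) p = 1 from (QuotientGroup.eq_one_iff (N := K φ A B) p).2 hp]
  exact one_mem _

theorem exists_pow_mem_K {φ : P →* MulAut Y} {A B : Subgroup Y} {p : P} (hp : p ∈ J φ A B) :
    ∃ k : ℕ, p ^ 2 ^ k ∈ K φ A B := by
  haveI := K_normal φ A B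
  haveI := Fact.mk Nat.prime_two
  obtain ⟨k, hk⟩ := CfsgLib.Coprime.pCore_isPGroup (G := P ⧸ K φ A B) 2 ⟨_, hp⟩
  exact ⟨k, (QuotientGroup.eq_one_iff _).1 (by
    have := congrArg Subtype.val hk
    simpa using this)⟩

theorem le_J {φ : P →* MulAut Y} {A B : Subgroup Y} (N : Subgroup P) [hN : N.Normal]
    (h : ∀ n ∈ N, ∃ k : ℕ, n ^ 2 ^ k ∈ K φ A B) : N ≤ J φ A B := by
  haveI := K_normal φ A B
  haveI := Fact.mk Nat.prime_two
  haveI := hN.map (QuotientGroup.mk' (K φ A B)) (QuotientGroup.mk'_surjective _)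
  intro n hn
  refine CfsgLib.Coprime.le_pCore (N := N.map (QuotientGroup.mk' (K φ A B))) ?_ (mem_map_of_mem _ hn)
  rintro ⟨_, m, hm, rfl⟩
  obtain ⟨k, hk⟩ := h m hm
  exact ⟨k, Subtype.ext (by
    show QuotientGroup.mk' (K φ A B) m ^ 2 ^ k = 1
    rw [← map_pow]
    exact (QuotientGroup.eq_one_iff _).2 hk)⟩

theorem J_mono {φ : P →* MulAut Y} {A B A' B' : Subgroup Y} (hA : Inv φ A) (hB : Inv φ B)
    (hA' : Inv φ A') (hB' : Inv φ B') (h1 : A ≤ A') (h2 : B' ≤ B) : J φ A B ≤ J φ A' B' := by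
  haveI := J_normal φ A B
  refine le_J _ fun n hn => ?_
  obtain ⟨k, hk⟩ := exists_pow_mem_K hn
  exact ⟨k, (mem_K hA' hB').2 fun b hb => h1 ((mem_K hA hB).1 hk b (h2 hb))⟩

theorem J_self (φ : P →* MulAut Y) {A : Subgroup Y} (hA : Inv φ A) : J φ A A = ⊤ :=
  top_le_iff.1 fun p _ => K_le_J φ A A ((mem_K hA hA).2 fun b hb => div_mem (hA p b hb) hb)

theorem J_inter {φ : P →* MulAut Y} (hY : ∀ y : Y, y * y = 1) {A S B : Subgroup Y} (hA : Inv φ A)
    (hS : Inv φ S) (hB : Inv φ B) : J φ A S ⊓ J φ S B ≤ J φ A B := by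
  haveI := J_normal φ A S
  haveI := J_normal φ S B
  refine le_J _ fun n hn => ?_
  obtain ⟨k₁, hk₁⟩ := exists_pow_mem_K (mem_inf.1 hn).1
  obtain ⟨k₂, hk₂⟩ := exists_pow_mem_K (mem_inf.1 hn).2
  set m := n ^ 2 ^ (k₁ + k₂) with hm
  have hm₁ : ∀ b ∈ S, φ m b / b ∈ A := (mem_K hA hS).1 (by
    rw [hm, pow_add, pow_mul]; exact pow_mem hk₁ _)
  have hm₂ : ∀ b ∈ B, φ m b / b ∈ S := (mem_K hS hB).1 (by
    rw [hm, add_comm, pow_add, pow_mul]; exact pow_mem hk₂ _)
  refine ⟨k₁ + k₂ + 1, (mem_K hA hB).2 fun b hb => ?_⟩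
  rw [pow_succ, pow_mul, ← hm, pow_two, apply_mul]
  set s := φ m b / b with hs
  have e : φ m b = s * b := by rw [hs, div_mul_cancel]
  rw [e, map_mul, e, ← mul_assoc, mul_div_assoc, div_self', mul_one]
  have hsA := hm₁ s (hm₂ b hb)
  have e2 : φ m s * s = φ m s / s := by rw [div_eq_mul_inv, inv_eq hY]
  rwa [e2]

/-- Restriction of the action to an invariant subgroup. -/
def resHom (φ : P →* MulAut Y) {B : Subgroup Y} (hB : Inv φ B) : P →* MulAut B :=
  MonoidHom.mk' (fun p =>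
    { toFun := fun b => ⟨φ p b, hB p b b.2⟩
      invFun := fun b => ⟨φ p⁻¹ b, hB p⁻¹ b b.2⟩
      left_inv := fun b => Subtype.ext (by
        show φ p⁻¹ (φ p (b : Y)) = b
        rw [← apply_mul, inv_mul_cancel, map_one, MulAut.one_apply])
      right_inv := fun b => Subtype.ext (by
        show φ p (φ p⁻¹ (b : Y)) = b
        rw [← apply_mul, mul_inv_cancel, map_one, MulAut.one_apply])
      map_mul' := fun a b => Subtype.ext (map_mul (φ p) _ _) })
    fun p q => MulEquiv.ext fun b => Subtype.ext (apply_mul φ p q b)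

/-- The action on a section. -/
def secHom (φ : P →* MulAut Y) {A B : Subgroup Y} (hA : Inv φ A) (hB : Inv φ B) :
    P →* MulAut (B ⧸ A.subgroupOf B) :=
  MonoidHom.mk' (fun p => QuotientGroup.congr _ _ (resHom φ hB p) (by
      ext b
      constructor
      · rintro ⟨a, ha, rfl⟩
        exact hA p _ ha
      · intro hb
        refine ⟨(resHom φ hB p).symm b, hA p⁻¹ _ hb, ?_⟩
        exact (resHom φ hB p).apply_symm_apply b))
    fun p q => MulEquiv.ext fun c => by
      obtain ⟨b, rfl⟩ := QuotientGroup.mk_surjective c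
      show QuotientGroup.mk (resHom φ hB (p * q) b) = QuotientGroup.mk (resHom φ hB p (resHom φ hB q b))
      rw [map_mul]
      rfl

theorem secHom_mk (φ : P →* MulAut Y) {A B : Subgroup Y} (hA : Inv φ A) (hB : Inv φ B) (p : P) (b : B) :
    secHom φ hA hB p (QuotientGroup.mk b) = QuotientGroup.mk ⟨φ p b, hB p b b.2⟩ := rfl

theorem secHom_mk_eq_iff (φ : P →* MulAut Y) {A B : Subgroup Y} (hA : Inv φ A) (hB : Inv φ B) (p : P)
    (b : B) : secHom φ hA hB p (QuotientGroup.mk b) = QuotientGroup.mk b ↔ φ p b / b ∈ A := by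
  rw [secHom_mk, QuotientGroup.eq_iff_div_mem, mem_subgroupOf]
  rfl

theorem secHom_ker (φ : P →* MulAut Y) {A B : Subgroup Y} (hA : Inv φ A) (hB : Inv φ B) :
    (secHom φ hA hB).ker = K φ A B := by
  ext p
  rw [MonoidHom.mem_ker, mem_K hA hB]
  constructor
  · intro h b hb
    exact (secHom_mk_eq_iff φ hA hB p ⟨b, hb⟩).1 (by rw [h]; rfl)
  · intro h
    refine MulEquiv.ext fun c => ?_
    obtain ⟨b, rfl⟩ := QuotientGroup.mk_surjective c
    exact (secHom_mk_eq_iff φ hA hB p b).2 (h b b.2)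

/-- The induced group. -/
abbrev secAct (φ : P →* MulAut Y) {A B : Subgroup Y} (hA : Inv φ A) (hB : Inv φ B) :
    (secHom φ hA hB).range →* MulAut (B ⧸ A.subgroupOf B) := (secHom φ hA hB).range.subtype

variable [Finite Y]

theorem secAct_free {φ : P →* MulAut Y} (hF : Free φ) {A B : Subgroup Y} (hA : Inv φ A)
    (hB : Inv φ B) (hAB : A ≤ B) : Free (secAct φ hA hB) := by
  rintro ⟨_, x, rfl⟩ ⟨_, r, rfl⟩ A' B' hle hidx hAx hAr hBx hBr hxx hinv ⟨k, hk, hkB⟩ c hc
  set π := QuotientGroup.mk' (A.subgroupOf B) with hπ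
  set A'' := (A'.comap π).map B.subtype with hA''
  set B'' := (B'.comap π).map B.subtype with hB''
  have hmem : ∀ (D : Subgroup (B ⧸ A.subgroupOf B)) (b : B),
      (b : Y) ∈ (D.comap π).map B.subtype ↔ (QuotientGroup.mk b : B ⧸ A.subgroupOf B) ∈ D :=
    fun D b => mem_map_iff_mem B.subtype_injective
  have hval : ∀ (p : P) (b : B),
      secHom φ hA hB p (QuotientGroup.mk b) = QuotientGroup.mk ⟨φ p b, hB p b b.2⟩ := fun _ _ => rfl
  have hidx' : A''.relIndex B'' = 4 := by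
    rw [hA'', hB'', relIndex_map_map_of_injective _ _ B.subtype_injective, relIndex_comap,
      map_comap_eq_self_of_surjective (QuotientGroup.mk'_surjective _), hidx]
  have hinvD : ∀ (D : Subgroup (B ⧸ A.subgroupOf B)) (p : P),
      (∀ a ∈ D, secHom φ hA hB p a ∈ D) → ∀ a ∈ (D.comap π).map B.subtype,
        φ p a ∈ (D.comap π).map B.subtype := by
    rintro D p hD _ ⟨b, hb, rfl⟩
    exact (hmem D ⟨φ p b, hB p b b.2⟩).2 (hval p b ▸ hD _ hb)
  have hmod : ∀ (p : P), (∀ a ∈ B', secHom φ hA hB p a / a ∈ A') → ∀ b ∈ B'', φ p b / b ∈ A'' := by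
    rintro p hp _ ⟨b, hb, rfl⟩
    exact (hmem A' ((⟨φ p b, hB p b b.2⟩ : B) / b)).2 (hp _ hb)
  obtain ⟨b, rfl⟩ := QuotientGroup.mk_surjective c
  have h := hF x r A'' B'' (map_mono (comap_mono hle)) hidx' (hinvD A' x hAx) (hinvD A' r hAr)
    (hinvD B' x hBx) (hinvD B' r hBr) (hmod _ fun a ha => by rw [map_mul]; exact hxx a ha)
    (hmod _ fun a ha => by simp only [map_mul, map_inv]; exact hinv a ha)
    ⟨k, hk, hmod _ fun a ha => by rw [map_pow]; exact hkB a ha⟩ (b : Y) ((hmem B' b).2 hc)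
  exact (hmem A' (⟨φ r b, hB r b b.2⟩ / b)).1 h

theorem sq_quotient (hY : ∀ y : Y, y * y = 1) (A B : Subgroup Y) :
    ∀ c : B ⧸ A.subgroupOf B, c * c = 1 := fun c => by
  obtain ⟨b, rfl⟩ := QuotientGroup.mk_surjective c
  rw [← QuotientGroup.mk_mul, show b * b = 1 from Subtype.ext (hY b), QuotientGroup.mk_one]

theorem secAct_pCore {φ : P →* MulAut Y} {A B : Subgroup Y} (hA : Inv φ A) (hB : Inv φ B)
    (hJ : J φ A B ≤ K φ A B) : Cfsg.pCore 2 (secHom φ hA hB).range = ⊥ := by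
  haveI := Fact.mk Nat.prime_two
  set f := (secHom φ hA hB).rangeRestrict with hf
  haveI := CfsgLib.Coprime.pCore_normal' (G := (secHom φ hA hB).range) 2
  set N := (Cfsg.pCore 2 (secHom φ hA hB).range).comap f with hN
  haveI : N.Normal := Normal.comap inferInstance _
  have h : N ≤ J φ A B := le_J N fun n hn => by
    obtain ⟨k, hk⟩ := CfsgLib.Coprime.pCore_isPGroup (G := (secHom φ hA hB).range) 2 ⟨_, hn⟩
    refine ⟨k, ?_⟩
    rw [← secHom_ker φ hA hB, MonoidHom.mem_ker, map_pow]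
    have h2 : f n ^ 2 ^ k = 1 := congrArg Subtype.val hk
    have := congrArg Subtype.val h2
    simpa [hf] using this
  rw [eq_bot_iff]
  intro z hz
  obtain ⟨p, rfl⟩ := MonoidHom.rangeRestrict_surjective (secHom φ hA hB) z
  have h1 : p ∈ K φ A B := hJ (h hz)
  rw [← secHom_ker φ hA hB, MonoidHom.mem_ker] at h1
  exact mem_bot.2 (Subtype.ext h1)

theorem index_fx {φ : P →* MulAut Y} {A B : Subgroup Y} (hA : Inv φ A) (hB : Inv φ B) (S : Set P) :
    (fx (secAct φ hA hB) ((secHom φ hA hB).rangeRestrict '' S)).index = (fxs φ A B S).relIndex B := by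
  rw [← index_comap_of_surjective _ (QuotientGroup.mk'_surjective (A.subgroupOf B)), relIndex]
  refine congrArg Subgroup.index (Subgroup.ext fun b => ?_)
  rw [mem_comap, mem_fx, mem_subgroupOf, mem_fxs]
  refine ⟨fun h => ⟨b.2, fun x hx => (secHom_mk_eq_iff φ hA hB x b).1 (h _ ⟨x, hx, rfl⟩)⟩, ?_⟩
  rintro h _ ⟨x, hx, rfl⟩
  exact (secHom_mk_eq_iff φ hA hB x b).2 (h.2 x hx)

variable [Group.IsSolvable P]

/-- The bound on a section where no nontrivial normal 2-subgroup is induced. -/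
theorem chief_loss {φ : P →* MulAut Y} (hF : Free φ) (hY : ∀ y : Y, y * y = 1) {A B : Subgroup Y}
    (hA : Inv φ A) (hB : Inv φ B) (hAB : A ≤ B) (hJ : J φ A B ≤ K φ A B) (X : Subgroup P)
    (hX : ∀ x ∈ X, ∀ y, φ (x * x) y = y) :
    (K φ A B).relIndex X ^ 2 ≤ (fxs φ A B X).relIndex B ∧
      ((K φ A B).relIndex X ^ 2 = (fxs φ A B X).relIndex B → ¬ X ≤ K φ A B →
        ∃ x ∈ X, x ∉ K φ A B ∧ (fxs φ A B {x}).relIndex B = 4) := by
  set f := (secHom φ hA hB).rangeRestrict with hf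
  haveI : Group.IsSolvable (secHom φ hA hB).range :=
    Group.isSolvable_of_surjective (MonoidHom.rangeRestrict_surjective (secHom φ hA hB))
  have hsq : ∀ z ∈ X.map f, z * z = 1 := by
    rintro _ ⟨x, hx, rfl⟩
    rw [← map_mul, ← MonoidHom.mem_ker, hf, MonoidHom.ker_rangeRestrict, secHom_ker, mem_K hA hB]
    intro b _
    rw [hX x hx, div_self']
    exact one_mem A
  have hXe : Cfsg.IsElementaryAbelian 2 (X.map f) := by
    refine ⟨⟨⟨fun a b => Subtype.ext ?_⟩⟩, fun a ha => by rw [pow_two]; exact hsq a ha⟩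
    show (a : (secHom φ hA hB).range) * b = b * a
    have h := fun c (hc : c ∈ X.map f) => inv_eq_of_mul_eq_one_right (hsq c hc)
    rw [← h _ (mul_mem b.2 a.2), mul_inv_rev, h _ a.2, h _ b.2]
  have hker : f.ker = K φ A B := by rw [hf, MonoidHom.ker_rangeRestrict, secHom_ker]
  have hcard : Nat.card (X.map f) = (K φ A B).relIndex X := by rw [← hker, relIndex_ker]
  obtain ⟨h1, h2⟩ := card_sq_le_index (φ := secAct φ hA hB)
    ((secHom φ hA hB).range.subtype_injective) (secAct_free hF hA hB hAB)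
    (sq_quotient hY A B) (secAct_pCore hA hB hJ) _ (X.map f) le_rfl hXe
  rw [coe_map, index_fx hA hB, hcard] at h1 h2
  refine ⟨h1, fun he hne => ?_⟩
  obtain ⟨z, ⟨x, hx, rfl⟩, hz1, hzi⟩ := h2 he fun h => hne fun x hx => by
    have : f x ∈ (⊥ : Subgroup _) := h ▸ mem_map_of_mem f hx
    rwa [mem_bot, ← MonoidHom.mem_ker, hker] at this
  refine ⟨x, hx, fun h => hz1 (by rwa [← MonoidHom.mem_ker, hker]), ?_⟩
  rw [← Set.image_singleton, index_fx hA hB] at hzi
  exact hzi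

/-- In a minimal invariant section no nontrivial normal 2-group is induced. -/
theorem J_le_K_of_minimal {φ : P →* MulAut Y} (hY : ∀ y : Y, y * y = 1) {A S : Subgroup Y}
    (hA : Inv φ A) (hS : Inv φ S) (hAS : A ≤ S)
    (hmin : ∀ S' : Subgroup Y, Inv φ S' → A ≤ S' → S' ≤ S → S' = A ∨ S' = S) :
    J φ A S ≤ K φ A S := by
  haveI := Fact.mk Nat.prime_two
  haveI hJn := J_normal φ A S
  by_cases hne : A = S
  · intro p _
    rw [mem_K hA hS]
    intro b hb
    rw [hne]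
    exact div_mem (hS p b hb) hb
  set S₀ := fxs φ A S (J φ A S : Set P) with hS₀
  have hAS₀ : A ≤ S₀ := fun a ha => ⟨hAS ha, fun x _ => div_mem (hA x a ha) ha⟩
  have hinv : Inv φ S₀ := by
    intro p b hb
    refine ⟨hS p b hb.1, fun x hx => ?_⟩
    have h1 := hb.2 _ (by simpa using hJn.conj_mem x hx p⁻¹ : p⁻¹ * x * p ∈ (J φ A S : Set P))
    have h2 := hA p _ h1
    rwa [map_div, ← apply_mul, ← mul_assoc, ← mul_assoc, mul_inv_cancel, one_mul, apply_mul] at h2
  rcases hmin S₀ hinv hAS₀ (fxs_le φ A S _) with h | h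
  · exfalso
    set R := (J φ A S).map (secHom φ hA hS) with hR
    have hRp : IsPGroup 2 R := by
      rintro ⟨_, x, hx, rfl⟩
      obtain ⟨k, hk⟩ := exists_pow_mem_K hx
      refine ⟨k, Subtype.ext ?_⟩
      show secHom φ hA hS x ^ 2 ^ k = 1
      rwa [← map_pow, ← MonoidHom.mem_ker, secHom_ker]
    obtain ⟨n, hn⟩ := (isPGroup_of_sq (sq_quotient hY A S) ⊤).exists_card_eq
    rw [card_top] at hn
    have hdvd : 2 ∣ Nat.card (S ⧸ A.subgroupOf S) := by
      rcases n with - | n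
      · exfalso
        rw [pow_zero, ← index_eq_card, index_eq_one, subgroupOf_eq_top] at hn
        exact hne (le_antisymm hAS hn)
      · exact hn ▸ dvd_pow_self 2 (Nat.succ_ne_zero n)
    have h1 : (1 : S ⧸ A.subgroupOf S) ∈ MulAction.fixedPoints R (S ⧸ A.subgroupOf S) :=
      fun g => show (g : MulAut (S ⧸ A.subgroupOf S)) 1 = 1 from map_one _
    obtain ⟨c, hc, hc1⟩ := hRp.exists_fixed_point_of_prime_dvd_card_of_fixed_point _ hdvd h1
    obtain ⟨b, rfl⟩ := QuotientGroup.mk_surjective c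
    have hb : (b : Y) ∈ S₀ := ⟨b.2, fun x hx => (secHom_mk_eq_iff φ hA hS x b).1
      (hc ⟨_, mem_map_of_mem _ hx⟩)⟩
    rw [h] at hb
    exact hc1 ((QuotientGroup.eq_one_iff b).2 (mem_subgroupOf.2 hb)).symm
  · intro p hp
    exact (mem_K hA hS).2 fun b hb => (h.ge hb).2 p hp

/-- An element with four cosets of fixed points on one section and unipotent outside it. -/
def Wit (φ : P →* MulAut Y) (A B : Subgroup Y) (X : Subgroup P) : Prop :=
  ∃ (A' B' : Subgroup Y) (x : P), Inv φ A' ∧ Inv φ B' ∧ A ≤ A' ∧ A' ≤ B' ∧ B' ≤ B ∧ x ∈ X ∧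
    x ∈ J φ A A' ∧ x ∈ J φ B' B ∧ x ∉ J φ A B ∧ J φ A' B' ≤ K φ A' B' ∧
    (fxs φ A' B' {x}).relIndex B' = 4

/-- The bound on every section. -/
theorem loss_le {φ : P →* MulAut Y} (hF : Free φ) (hY : ∀ y : Y, y * y = 1) :
    ∀ (n : ℕ) (A B : Subgroup Y), A.relIndex B ≤ n → Inv φ A → Inv φ B → A ≤ B →
      ∀ X : Subgroup P, (∀ x ∈ X, ∀ y, φ (x * x) y = y) →
        (J φ A B).relIndex X ^ 2 ≤ (fxs φ A B X).relIndex B ∧
          ((J φ A B).relIndex X ^ 2 = (fxs φ A B X).relIndex B → ¬ X ≤ J φ A B → Wit φ A B X) := by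
  intro n
  induction n with
  | zero =>
    intro A B hn
    exact absurd hn (not_le.2 (Nat.pos_of_ne_zero (A.subgroupOf B).index_ne_zero_of_finite))
  | succ n ih =>
    intro A B hn hA hB hAB X hX
    have hpos : ∀ (U : Subgroup Y) (V : Subgroup Y), 0 < U.relIndex V := fun U V =>
      Nat.pos_of_ne_zero (U.subgroupOf V).index_ne_zero_of_finite
    by_cases hne : A = B
    · subst hne
      rw [relIndex_eq_one.2 (le_top.trans (J_self φ hA).ge)]
      exact ⟨by rw [one_pow]; exact hpos _ _, fun _ h => absurd (le_top.trans (J_self φ hA).ge) h⟩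
    obtain ⟨S, hSB, ⟨hS, hAS, -⟩, hSmin⟩ : ∃ S, S ≤ B ∧ (Inv φ S ∧ A < S ∧ S ≤ B) ∧
        ∀ S', Inv φ S' ∧ A < S' ∧ S' ≤ B → S' ≤ S → S ≤ S' := by
      obtain ⟨S, hSB, hS⟩ := Finite.exists_le_minimal
        (p := fun S : Subgroup Y => Inv φ S ∧ A < S ∧ S ≤ B) (a := B)
        ⟨hB, lt_of_le_of_ne hAB hne, le_rfl⟩
      exact ⟨S, hSB, hS.prop, fun S' h1 h2 => hS.le_of_le h1 h2⟩
    have hmin : ∀ S' : Subgroup Y, Inv φ S' → A ≤ S' → S' ≤ S → S' = A ∨ S' = S := by
      intro S' h1 h2 h3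
      rcases eq_or_lt_of_le h2 with h | h
      · exact Or.inl h.symm
      · exact Or.inr (le_antisymm h3 (hSmin S' ⟨h1, h, h3.trans hSB⟩ h3))
    have hJK := J_le_K_of_minimal hY hA hS hAS.le hmin
    have hJKe : J φ A S = K φ A S := le_antisymm hJK (K_le_J φ A S)
    obtain ⟨hb1, hb2⟩ := chief_loss hF hY hA hS hAS.le hJK X hX
    set X₁ := X ⊓ J φ A S with hX₁
    have hSn : S.relIndex B ≤ n := by
      have h := relIndex_mul_relIndex A S B hAS.le hSB
      have h2 : 2 ≤ A.relIndex S := by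
        by_contra hlt
        have : A.relIndex S = 1 := by have := hpos A S; omega
        exact hAS.not_ge (relIndex_eq_one.1 this)
      have := hpos S B
      nlinarith
    obtain ⟨hi1, hi2⟩ := ih S B hSn hS hB hSB X₁ fun x hx => hX x hx.1
    -- the fixed points decompose
    set F := fxs φ A B (X : Set P) with hFd
    have hFS : F ⊓ S = fxs φ A S (X : Set P) :=
      le_antisymm (fun b hb => ⟨hb.2, hb.1.2⟩) fun b hb => ⟨⟨hSB hb.1, hb.2⟩, hb.1⟩
    have hFB : F ≤ B := fxs_le φ A B _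
    have hsup : F ⊔ S ≤ fxs φ S B (X : Set P) :=
      sup_le (fun b hb => ⟨hb.1, fun x hx => hAS.le (hb.2 x hx)⟩)
        fun b hb => ⟨hSB hb, fun x _ => div_mem (hS x b hb) hb⟩
    have hloss : F.relIndex B = (fxs φ A S (X : Set P)).relIndex S * (F ⊔ S).relIndex B := by
      rw [← relIndex_mul_relIndex F (F ⊔ S) B le_sup_left (sup_le hFB hSB), ← hFS, inf_relIndex_right,
        sup_comm, relIndex_sup_right]
    have hanti : fxs φ S B (X : Set P) ≤ fxs φ S B (X₁ : Set P) := fun b hb =>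
      ⟨hb.1, fun x hx => hb.2 x (hX₁ ▸ hx : x ∈ X ⊓ J φ A S).1⟩
    have h2 : (fxs φ S B (X₁ : Set P)).relIndex B ≤ (F ⊔ S).relIndex B :=
      relIndex_le_of_le_left (hsup.trans hanti) (hpos _ _).ne'
    have hidx : (J φ A B).relIndex X ≤ (K φ A S).relIndex X * (J φ S B).relIndex X₁ := by
      rw [← hJKe]
      calc (J φ A B).relIndex X ≤ (J φ A S ⊓ J φ S B).relIndex X :=
            relIndex_le_of_le_left (J_inter hY hA hS hB) (Subgroup.index_ne_zero_of_finite)
        _ = (J φ A S).relIndex X * (J φ S B).relIndex X₁ := by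
          have := relIndex_mul_relIndex (X₁ ⊓ J φ S B) X₁ X inf_le_left inf_le_left
          rw [inf_relIndex_left, hX₁, inf_relIndex_left] at this
          rw [hX₁, mul_comm, this, inf_assoc, inf_relIndex_left]
    have hle : (J φ A B).relIndex X ^ 2 ≤ (fxs φ A S (X : Set P)).relIndex S *
        (fxs φ S B (X₁ : Set P)).relIndex B :=
      le_trans (Nat.pow_le_pow_left hidx 2) (by rw [mul_pow]; exact Nat.mul_le_mul hb1 hi1)
    refine ⟨hle.trans (by rw [hloss]; exact Nat.mul_le_mul le_rfl h2), fun heq hnot => ?_⟩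
    rw [hloss] at heq
    have hposS := hpos (fxs φ A S (X : Set P)) S
    have hposB := hpos (fxs φ S B (X₁ : Set P)) B
    -- all inequalities are equalities
    have e2 : (F ⊔ S).relIndex B = (fxs φ S B (X₁ : Set P)).relIndex B :=
      le_antisymm (Nat.le_of_mul_le_mul_left (heq ▸ hle) hposS) h2
    rw [e2] at heq
    have e3 : ((K φ A S).relIndex X * (J φ S B).relIndex X₁) ^ 2 =
        (fxs φ A S (X : Set P)).relIndex S * (fxs φ S B (X₁ : Set P)).relIndex B :=
      le_antisymm (by rw [mul_pow]; exact Nat.mul_le_mul hb1 hi1)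
        (heq ▸ Nat.pow_le_pow_left hidx 2)
    rw [mul_pow] at e3
    have ea : (K φ A S).relIndex X ^ 2 = (fxs φ A S (X : Set P)).relIndex S := by
      refine le_antisymm hb1 (Nat.le_of_mul_le_mul_right ?_ hposB)
      rw [← e3]
      exact Nat.mul_le_mul le_rfl hi1
    have eb : (J φ S B).relIndex X₁ ^ 2 = (fxs φ S B (X₁ : Set P)).relIndex B := by
      rw [ea] at e3
      exact Nat.eq_of_mul_eq_mul_left hposS e3
    by_cases hX₁J : X₁ ≤ J φ S B
    · have hfull : B ≤ fxs φ S B (X : Set P) := by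
        refine le_trans ?_ hsup
        rw [← relIndex_eq_one, e2, ← eb, relIndex_eq_one.2 hX₁J, one_pow]
      have hXK : X ≤ J φ S B := fun x hx =>
        K_le_J φ S B ((mem_K hS hB).2 fun b hb => (hfull hb).2 x hx)
      have hnK : ¬ X ≤ K φ A S := fun h =>
        hnot fun x hx => J_inter hY hA hS hB (mem_inf.2 ⟨K_le_J φ A S (h hx), hXK hx⟩)
      obtain ⟨x, hx, hxK, hxi⟩ := hb2 ea hnK
      exact ⟨A, S, x, hA, hS, le_rfl, hAS.le, hSB, hx, (J_self φ hA).symm ▸ mem_top x, hXK hx,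
        fun h => hxK (hJK (J_mono hA hB hA hS le_rfl hSB h)), hJK, hxi⟩
    · obtain ⟨A', B', x, hA', hB', h1, h2', h3, hx, hx1, hx2, hx3, h4, h5⟩ := hi2 eb hX₁J
      exact ⟨A', B', x, hA', hB', hAS.le.trans h1, h2', h3, hx.1,
        J_inter hY hA hS hA' (mem_inf.2 ⟨hx.2, hx1⟩), hx2,
        fun h => hx3 (J_mono hA hB hS hB hAS.le le_rfl h), h4, h5⟩

end CfsgLib.FourFree
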